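import Mathlib

/-!
Hall subgroups of finite solvable groups: existence, conjugacy, containment
(one induction), plus conjugacy of complements of an abelian normal subgroup
of coprime order and index.
-/

set_option autoImplicit false

namespace Cfsg.Agent.Lib.Helper91.Hall

universe u

open scoped Pointwise

theorem mem_conj_smul {G : Type*} [Group G] (g x : G) (H : Subgroup G) :
    x ∈ MulAut.conj g • H ↔ g⁻¹ * x * g ∈ H := by
  rw [Subgroup.mem_pointwise_smul_iff_inv_smul_mem]
  simp [MulAut.smul_def]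

theorem card_conj_smul {G : Type*} [Group G] (g : G) (H : Subgroup G) :
    Nat.card ↥(MulAut.conj g • H) = Nat.card H :=
  (Nat.card_congr (Subgroup.equivSMul (MulAut.conj g) H).toEquiv).symm

/-- the class of a transversal in `QuotientDiff` -/
noncomputable def cls {G : Type*} [Group G] (N : Subgroup G) [IsMulCommutative N] [N.FiniteIndex]
    (T : N.LeftTransversal) : N.QuotientDiff := Quotient.mk'' T

theorem smul_cls {G : Type*} [Group G] (N : Subgroup G) [IsMulCommutative N] [N.FiniteIndex]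
    [N.Normal] (g : G) (T : N.LeftTransversal) :
    g • cls N T = cls N (MulOpposite.op g⁻¹ • T) := rfl

/-- Complements of an abelian normal subgroup of coprime order and index are conjugate. -/
theorem sz_abelian_conj {G : Type*} [Group G] [Finite G] (N : Subgroup G) [N.Normal]
    [IsMulCommutative N] (hcop : Nat.Coprime (Nat.card N) N.index) (H₁ H₂ : Subgroup G)
    (h₁ : N.IsComplement' H₁) (h₂ : N.IsComplement' H₂) : ∃ g : G, MulAut.conj g • H₁ = H₂ := by
  classical
  have key : ∀ (H : Subgroup G) (h : N.IsComplement' H),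
      H = MulAction.stabilizer G (cls N ⟨(H : Set G), h.symm⟩) := by
    intro H h
    have hle : H ≤ MulAction.stabilizer G (cls N ⟨(H : Set G), h.symm⟩) := by
      intro k hk
      rw [MulAction.mem_stabilizer_iff, smul_cls]
      have e : (MulOpposite.op k⁻¹ • (⟨(H : Set G), h.symm⟩ : N.LeftTransversal))
          = ⟨(H : Set G), h.symm⟩ := by
        apply Subtype.ext
        show MulOpposite.op k⁻¹ • (H : Set G) = (H : Set G)
        ext x
        constructor
        · rintro ⟨y, hy, rfl⟩
          exact H.mul_mem hy (H.inv_mem hk)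
        · intro hx
          refine ⟨x * k, H.mul_mem hx hk, ?_⟩
          simp
      rw [e]
    have hc := Subgroup.isComplement'_stabilizer_of_coprime
      (α := cls N ⟨(H : Set G), h.symm⟩) hcop
    have hcard : Nat.card (MulAction.stabilizer G (cls N ⟨(H : Set G), h.symm⟩)) ≤ Nat.card H := by
      have e1 := h.card_mul_card
      have e2 := hc.card_mul_card
      have hpos : 0 < Nat.card N := Nat.card_pos
      have e3 : Nat.card N * Nat.card (MulAction.stabilizer G (cls N ⟨(H : Set G), h.symm⟩))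
          = Nat.card N * Nat.card H := by
        rw [e1, e2]
      exact le_of_eq (Nat.eq_of_mul_eq_mul_left hpos e3)
    exact Subgroup.eq_of_le_of_card_ge hle hcard
  obtain ⟨n, hn⟩ := Subgroup.exists_smul_eq hcop
    (cls N ⟨(H₁ : Set G), h₁.symm⟩) (cls N ⟨(H₂ : Set G), h₂.symm⟩)
  refine ⟨(n : G), ?_⟩
  have e2 := key H₂ h₂
  have hn' : ((n : G) • cls N ⟨(H₁ : Set G), h₁.symm⟩) = cls N ⟨(H₂ : Set G), h₂.symm⟩ := hn
  rw [← hn', MulAction.stabilizer_smul_eq_stabilizer_map_conj, ← key H₁ h₁] at e2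
  rw [e2]
  ext x
  rw [mem_conj_smul, Subgroup.mem_map]
  constructor
  · intro hx
    refine ⟨_, hx, ?_⟩
    simp [mul_assoc]
  · rintro ⟨y, hy, rfl⟩
    simpa [mul_assoc] using hy

/-- A nontrivial finite solvable group has a nontrivial normal abelian `p`-subgroup. -/
theorem exists_normal_abelian_pgroup (G : Type*) [Group G] [Finite G] [Group.IsSolvable G]
    [Nontrivial G] :
    ∃ (p : ℕ) (N : Subgroup G), p.Prime ∧ N.Normal ∧ IsMulCommutative N ∧ IsPGroup p N ∧ N ≠ ⊥ := by
  classical
  have hsol : ∃ n : ℕ, derivedSeries G n = ⊥ := Group.IsSolvable.solvable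
  have h0 : Nat.find hsol ≠ 0 := by
    intro h0
    have h1 := Nat.find_spec hsol
    rw [h0, derivedSeries_zero] at h1
    exact top_ne_bot h1
  obtain ⟨j, hj⟩ := Nat.exists_eq_succ_of_ne_zero h0
  set A : Subgroup G := derivedSeries G j with hA
  have hAne : A ≠ ⊥ := by
    intro h
    have := Nat.find_min' hsol h
    omega
  have hAcomm : ⁅A, A⁆ = ⊥ := by
    have h1 := Nat.find_spec hsol
    rw [hj, derivedSeries_succ] at h1
    exact h1
  have hAc : ∀ a ∈ A, ∀ b ∈ A, a * b = b * a := by
    intro a ha b hb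
    have h1 := Subgroup.commutator_eq_bot_iff_le_centralizer.mp hAcomm
    have h2 := h1 hb
    rw [Subgroup.mem_centralizer_iff] at h2
    exact h2 a ha
  have hAn : A.Normal := derivedSeries_normal G j
  have hcardA : Nat.card A ≠ 1 := by
    intro h
    exact hAne (Subgroup.card_eq_one.mp h)
  obtain ⟨p, hp, hpd⟩ := Nat.exists_prime_and_dvd hcardA
  have : Fact p.Prime := ⟨hp⟩
  let N : Subgroup G :=
    { carrier := {a | a ∈ A ∧ a ^ p = 1}
      one_mem' := ⟨A.one_mem, one_pow p⟩
      mul_mem' := by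
        rintro a b ⟨ha, hap⟩ ⟨hb, hbp⟩
        refine ⟨A.mul_mem ha hb, ?_⟩
        have hc : Commute a b := hAc a ha b hb
        rw [hc.mul_pow, hap, hbp, one_mul]
      inv_mem' := by
        rintro a ⟨ha, hap⟩
        exact ⟨A.inv_mem ha, by rw [inv_pow, hap, inv_one]⟩ }
  have hNmem : ∀ a : G, a ∈ N ↔ a ∈ A ∧ a ^ p = 1 := fun a => Iff.rfl
  refine ⟨p, N, hp, ?_, ?_, ?_, ?_⟩
  · constructor
    intro a ha g
    rw [hNmem] at ha ⊢
    refine ⟨hAn.conj_mem a ha.1 g, ?_⟩
    rw [conj_pow, ha.2]
    group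
  · refine ⟨⟨fun a b => ?_⟩⟩
    apply Subtype.ext
    exact hAc a a.2.1 b b.2.1
  · intro g
    refine ⟨1, ?_⟩
    apply Subtype.ext
    rw [pow_one, Subgroup.coe_pow]
    exact g.2.2
  · obtain ⟨a, ha⟩ := exists_prime_orderOf_dvd_card' (G := A) p hpd
    intro hbot
    have hmem : (a : G) ∈ N := by
      rw [hNmem]
      refine ⟨a.2, ?_⟩
      have h1 : a ^ p = 1 := by rw [← ha]; exact pow_orderOf_eq_one a
      have h2 := congrArg Subtype.val h1
      rw [Subgroup.coe_pow] at h2
      exact h2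
    rw [hbot, Subgroup.mem_bot] at hmem
    have h3 : a = 1 := Subtype.ext hmem
    rw [h3, orderOf_one] at ha
    exact hp.one_lt.ne ha

/-- arithmetic: a divisor pair of a coprime product is determined -/
theorem arith_split {a b m n m₁ n₁ : ℕ} (hmn : m.Coprime n) (ha : a ∣ m) (hb : b ∣ n)
    (hm₁ : m₁ ∣ m) (hn₁ : n₁ ∣ n) (hpos : 0 < m₁ * n₁) (h : a * b = m₁ * n₁) :
    a = m₁ ∧ b = n₁ := by
  have ha1 : a ∣ m₁ := by
    have h1 : a ∣ m₁ * n₁ := ⟨b, h.symm⟩
    have h2 : a.Coprime n₁ := Nat.Coprime.coprime_dvd_left ha (Nat.Coprime.coprime_dvd_right hn₁ hmn)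
    exact h2.dvd_of_dvd_mul_right h1
  have hb1 : b ∣ n₁ := by
    have h1 : b ∣ m₁ * n₁ := ⟨a, by rw [← h, mul_comm]⟩
    have h2 : b.Coprime m₁ :=
      Nat.Coprime.coprime_dvd_left hb (Nat.Coprime.coprime_dvd_right hm₁ hmn.symm)
    exact h2.dvd_of_dvd_mul_left h1
  have hm₁pos : 0 < m₁ := Nat.pos_of_mul_pos_right hpos
  have hn₁pos : 0 < n₁ := Nat.pos_of_mul_pos_left hpos
  have hale : a ≤ m₁ := Nat.le_of_dvd hm₁pos ha1
  have hble : b ≤ n₁ := Nat.le_of_dvd hn₁pos hb1
  have hapos : 0 < a := by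
    rcases Nat.eq_zero_or_pos a with h0 | h0
    · rw [h0, zero_mul] at h; omega
    · exact h0
  have hbpos : 0 < b := by
    rcases Nat.eq_zero_or_pos b with h0 | h0
    · rw [h0, mul_zero] at h; omega
    · exact h0
  constructor
  · by_contra hne
    have hlt : a < m₁ := lt_of_le_of_ne hale hne
    have : a * b < m₁ * n₁ := by
      calc a * b < m₁ * b := Nat.mul_lt_mul_of_pos_right hlt hbpos
        _ ≤ m₁ * n₁ := Nat.mul_le_mul_left _ hble
    omega
  · by_contra hne
    have hlt : b < n₁ := lt_of_le_of_ne hble hne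
    have : a * b < m₁ * n₁ := by
      calc a * b ≤ m₁ * b := Nat.mul_le_mul_right _ hale
        _ < m₁ * n₁ := Nat.mul_lt_mul_of_pos_left hlt hm₁pos
    omega

theorem card_comap_mk {G : Type*} [Group G] [Finite G] (N : Subgroup G) [N.Normal]
    (L : Subgroup (G ⧸ N)) :
    Nat.card (L.comap (QuotientGroup.mk' N)) = Nat.card L * Nat.card N := by
  have h1 : (L.comap (QuotientGroup.mk' N)).index = L.index :=
    Subgroup.index_comap_of_surjective L (QuotientGroup.mk'_surjective N)
  have h2 := Subgroup.card_mul_index (L.comap (QuotientGroup.mk' N))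
  have h3 := Subgroup.card_mul_index L
  have h4 : Nat.card G = Nat.card (G ⧸ N) * Nat.card N :=
    Subgroup.card_eq_card_quotient_mul_card_subgroup N
  have h5 : L.index ≠ 0 := Subgroup.index_ne_zero_of_finite
  rw [h1] at h2
  have h6 : Nat.card (L.comap (QuotientGroup.mk' N)) * L.index
      = (Nat.card L * Nat.card N) * L.index := by
    rw [h2, h4, ← h3]; ring
  exact Nat.eq_of_mul_eq_mul_right (Nat.pos_of_ne_zero h5) h6

theorem card_map_mk {G : Type*} [Group G] [Finite G] (N : Subgroup G) [N.Normal] (H : Subgroup G)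
    {m n m₁ n₁ : ℕ} (hG : Nat.card G = m * n) (hmn : m.Coprime n) (hH : Nat.card H = m)
    (hQ : Nat.card (G ⧸ N) = m₁ * n₁) (hm₁ : m₁ ∣ m) (hn₁ : n₁ ∣ n) :
    Nat.card (H.map (QuotientGroup.mk' N)) = m₁ ∧ (H.map (QuotientGroup.mk' N)).index = n₁ := by
  have hGpos : 0 < Nat.card G := Nat.card_pos
  have hmpos : 0 < m := by
    rcases Nat.eq_zero_or_pos m with h | h
    · rw [h, zero_mul] at hG; omega
    · exact h
  have hidx : H.index = n := by
    have h1 := Subgroup.card_mul_index H
    rw [hH, hG] at h1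
    exact Nat.eq_of_mul_eq_mul_left hmpos h1
  have ha : Nat.card (H.map (QuotientGroup.mk' N)) ∣ m := hH ▸ Subgroup.card_map_dvd H _
  have hb : (H.map (QuotientGroup.mk' N)).index ∣ n :=
    hidx ▸ Subgroup.index_map_dvd H (QuotientGroup.mk'_surjective N)
  have hab := Subgroup.card_mul_index (H.map (QuotientGroup.mk' N))
  rw [hQ] at hab
  have hpos : 0 < m₁ * n₁ := by
    rw [← hQ]; exact Nat.card_pos
  exact arith_split hmn ha hb hm₁ hn₁ hpos hab

theorem normal_le_of_card_map {G : Type*} [Group G] [Finite G] (N : Subgroup G) [N.Normal]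
    (H : Subgroup G) (h : Nat.card (H.map (QuotientGroup.mk' N)) * Nat.card N = Nat.card H) :
    N ≤ H := by
  have h1 : H ≤ (H.map (QuotientGroup.mk' N)).comap (QuotientGroup.mk' N) := Subgroup.le_comap_map _ H
  have h2 : Nat.card ((H.map (QuotientGroup.mk' N)).comap (QuotientGroup.mk' N)) ≤ Nat.card H := by
    rw [card_comap_mk, h]
  have h3 := Subgroup.eq_of_le_of_card_ge h1 h2
  have h4 : (QuotientGroup.mk' N).ker ≤ (H.map (QuotientGroup.mk' N)).comap (QuotientGroup.mk' N) :=
    MonoidHom.ker_le_comap _ _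
  rw [QuotientGroup.ker_mk', ← h3] at h4
  exact h4

theorem mk_mem_map_iff {G : Type*} [Group G] (N : Subgroup G) [N.Normal] (H : Subgroup G)
    (hNH : N ≤ H) (x : G) : QuotientGroup.mk' N x ∈ H.map (QuotientGroup.mk' N) ↔ x ∈ H := by
  constructor
  · intro hx
    have h1 : x ∈ (H.map (QuotientGroup.mk' N)).comap (QuotientGroup.mk' N) := hx
    rw [Subgroup.comap_map_eq, QuotientGroup.ker_mk', sup_eq_left.mpr hNH] at h1
    exact h1
  · intro hx
    exact Subgroup.mem_map_of_mem _ hx

theorem card_sup_normal {G : Type*} [Group G] [Finite G] (N : Subgroup G) [N.Normal]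
    (X : Subgroup G) (h : N ⊓ X = ⊥) : Nat.card ↥(N ⊔ X) = Nat.card N * Nat.card X := by
  have h1 : N.relIndex (N ⊔ X) = Nat.card X := by
    rw [Subgroup.relIndex_sup_left, ← Subgroup.inf_relIndex_right, h, Subgroup.relIndex_bot_left]
  have h2 := Subgroup.relIndex_mul_relIndex (⊥ : Subgroup G) N (N ⊔ X) bot_le le_sup_left
  rw [Subgroup.relIndex_bot_left, Subgroup.relIndex_bot_left, h1] at h2
  exact h2.symm

theorem card_complement_inf {G : Type*} [Group G] [Finite G] (N : Subgroup G) [N.Normal]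
    (H₀ M : Subgroup G) (hc : N.IsComplement' H₀) (hNM : N ≤ M) :
    Nat.card N * Nat.card ↥(H₀ ⊓ M) = Nat.card M := by
  have h1 : N ⊓ (H₀ ⊓ M) = ⊥ := by
    have h0 := hc.disjoint.eq_bot
    rw [← inf_assoc, h0, bot_inf_eq]
  have h2 : N ⊔ (H₀ ⊓ M) = M := by
    apply le_antisymm
    · exact sup_le hNM inf_le_right
    · intro x hx
      obtain ⟨⟨a, b⟩, hab, -⟩ := hc.existsUnique x
      have hab' : (a : G) * (b : G) = x := hab
      have hb : (b : G) ∈ M := by
        have e : (b : G) = (a : G)⁻¹ * x := by rw [← hab']; group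
        rw [e]
        exact M.mul_mem (M.inv_mem (hNM a.2)) hx
      rw [← hab']
      exact Subgroup.mul_mem_sup a.2 ⟨b.2, hb⟩
  rw [← card_sup_normal N (H₀ ⊓ M) h1, h2]

/-- transfer of conjugacy from a subgroup -/
theorem conj_of_subgroupOf {G : Type*} [Group G] (L A B : Subgroup G) (hA : A ≤ L) (hB : B ≤ L)
    (l : L) (h : MulAut.conj l • A.subgroupOf L = B.subgroupOf L) :
    MulAut.conj (l : G) • A = B := by
  ext x
  rw [mem_conj_smul]
  constructor
  · intro hx
    have hxL : x ∈ L := by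
      have e : x = (l : G) * ((l : G)⁻¹ * x * (l : G)) * (l : G)⁻¹ := by group
      rw [e]
      exact L.mul_mem (L.mul_mem l.2 (hA hx)) (L.inv_mem l.2)
    have h1 : (⟨x, hxL⟩ : L) ∈ MulAut.conj l • A.subgroupOf L := by
      rw [mem_conj_smul, Subgroup.mem_subgroupOf]
      exact hx
    rw [h, Subgroup.mem_subgroupOf] at h1
    exact h1
  · intro hx
    have h1 : (⟨x, hB hx⟩ : L) ∈ B.subgroupOf L := by
      rw [Subgroup.mem_subgroupOf]; exact hx
    rw [← h, mem_conj_smul, Subgroup.mem_subgroupOf] at h1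
    exact h1

theorem card_subgroupOf_of_le {G : Type*} [Group G] (A L : Subgroup G) (h : A ≤ L) :
    Nat.card (A.subgroupOf L) = Nat.card A :=
  Nat.card_congr (Subgroup.subgroupOfEquivOfLe h).toEquiv

theorem card_lt_of_ne_top {G : Type*} [Group G] [Finite G] (L : Subgroup G) (h : L ≠ ⊤) :
    Nat.card L < Nat.card G :=
  lt_of_le_of_ne (Subgroup.card_le_card_group L) (fun e => h ((Subgroup.card_eq_iff_eq_top L).mp e))

/-- Hall's theorems (conjugacy and containment) by induction on the order. -/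
theorem hall_aux (k : ℕ) : ∀ (G : Type u) [Group G] [Finite G] [Group.IsSolvable G], Nat.card G ≤ k →
    ∀ m n : ℕ, Nat.card G = m * n → m.Coprime n →
      (∀ H K : Subgroup G, Nat.card H = m → Nat.card K = m → ∃ g : G, MulAut.conj g • H = K) ∧
      (∀ K : Subgroup G, (Nat.card K).Coprime n → ∃ H : Subgroup G, Nat.card H = m ∧ K ≤ H) := by
  induction k with
  | zero =>
    intro G _ _ _ hk
    have := Nat.card_pos (α := G)
    omega
  | succ k ih =>
    intro G _ _ _ hk m n hG hmn
    by_cases hlt : Nat.card G ≤ k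
    · exact ih G hlt m n hG hmn
    have IH : ∀ (G' : Type u) [Group G'] [Finite G'] [Group.IsSolvable G'],
        Nat.card G' < Nat.card G → ∀ m n : ℕ, Nat.card G' = m * n → m.Coprime n →
        (∀ H K : Subgroup G', Nat.card H = m → Nat.card K = m → ∃ g : G', MulAut.conj g • H = K) ∧
        (∀ K : Subgroup G', (Nat.card K).Coprime n → ∃ H : Subgroup G', Nat.card H = m ∧ K ≤ H) :=
      fun G' _ _ _ h => ih G' (by omega)
    have hGpos : 0 < Nat.card G := Nat.card_pos
    have hmpos : 0 < m := by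
      rcases Nat.eq_zero_or_pos m with h | h
      · rw [h, zero_mul] at hG; omega
      · exact h
    have hnpos : 0 < n := by
      rcases Nat.eq_zero_or_pos n with h | h
      · rw [h, mul_zero] at hG; omega
      · exact h
    rcases subsingleton_or_nontrivial G with hsub | hnt
    · have hc1 : Nat.card G = 1 := Nat.card_eq_one_iff_unique.mpr ⟨hsub, ⟨1⟩⟩
      have hm1 : m = 1 := by
        rcases Nat.lt_or_ge m 2 with h | h
        · omega
        · have : 2 * 1 ≤ m * n := Nat.mul_le_mul h hnpos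
          omega
      refine ⟨fun H K _ _ => ⟨1, ?_⟩, fun K _ => ⟨K, ?_, le_rfl⟩⟩
      · rw [map_one, one_smul]
        ext x
        rw [Subsingleton.elim x 1]
        simp
      · have h1 := Subgroup.card_subgroup_dvd_card K
        rw [hc1] at h1
        rw [Nat.dvd_one.mp h1, hm1]
    obtain ⟨p, N, hp, hNn, hNc, hNp, hNne⟩ := exists_normal_abelian_pgroup G
    have hfact : Fact p.Prime := ⟨hp⟩
    obtain ⟨j, hj⟩ := IsPGroup.iff_card.mp hNp
    have hj0 : j ≠ 0 := by
      rintro rfl
      rw [pow_zero] at hj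
      exact hNne (Subgroup.card_eq_one.mp hj)
    have hq : Nat.card G = Nat.card (G ⧸ N) * Nat.card N :=
      Subgroup.card_eq_card_quotient_mul_card_subgroup N
    have hpjpos : 0 < p ^ j := Nat.pow_pos hp.pos
    have hN2 : 2 ≤ p ^ j := le_trans hp.two_le (Nat.le_self_pow hj0 p)
    have hqpos : 0 < Nat.card (G ⧸ N) := Nat.card_pos
    have hqlt : Nat.card (G ⧸ N) < Nat.card G := by
      rw [hq, hj]
      nlinarith
    have hpj_dvd : p ^ j ∣ m * n := by
      rw [← hG, hq, hj]
      exact dvd_mul_left _ _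
    have hpdvd : p ∣ m * n := dvd_trans (dvd_pow_self p hj0) hpj_dvd
    rcases (Nat.Prime.dvd_mul hp).mp hpdvd with hpm | hpn
    · -- Case A: p divides m
      have hpn : ¬ p ∣ n := by
        intro h
        have h1 := Nat.dvd_gcd hpm h
        rw [Nat.Coprime.gcd_eq_one hmn] at h1
        exact hp.one_lt.ne' (Nat.dvd_one.mp h1)
      have hcopn : (p ^ j).Coprime n :=
        Nat.Coprime.pow_left j ((Nat.Prime.coprime_iff_not_dvd hp).mpr hpn)
      obtain ⟨m', hm'⟩ := hcopn.dvd_of_dvd_mul_right hpj_dvd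
      have hQ : Nat.card (G ⧸ N) = m' * n := by
        apply Nat.eq_of_mul_eq_mul_right hpjpos
        rw [← hj, ← hq, hG, hm', hj]
        ring
      have hm'dvd : m' ∣ m := ⟨p ^ j, by rw [hm']; ring⟩
      have hcop' : m'.Coprime n := Nat.Coprime.coprime_dvd_left hm'dvd hmn
      obtain ⟨IHC, IHD⟩ := IH (G ⧸ N) hqlt m' n hQ hcop'
      refine ⟨?_, ?_⟩
      · intro H K hH hK
        have hH' := card_map_mk N H hG hmn hH hQ hm'dvd dvd_rfl
        have hK' := card_map_mk N K hG hmn hK hQ hm'dvd dvd_rfl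
        have hNH : N ≤ H := normal_le_of_card_map N H (by rw [hH'.1, hj, hH, hm']; ring)
        have hNK : N ≤ K := normal_le_of_card_map N K (by rw [hK'.1, hj, hK, hm']; ring)
        obtain ⟨gbar, hg⟩ := IHC _ _ hH'.1 hK'.1
        obtain ⟨g, rfl⟩ := QuotientGroup.mk'_surjective N gbar
        refine ⟨g, ?_⟩
        ext x
        rw [mem_conj_smul, ← mk_mem_map_iff N H hNH, ← mk_mem_map_iff N K hNK, ← hg, mem_conj_smul]
        simp
      · intro K hK
        have hK' : (Nat.card (K.map (QuotientGroup.mk' N))).Coprime n :=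
          Nat.Coprime.coprime_dvd_left (Subgroup.card_map_dvd K _) hK
        obtain ⟨Hbar, hHbar, hKH⟩ := IHD _ hK'
        refine ⟨Hbar.comap (QuotientGroup.mk' N), ?_, Subgroup.map_le_iff_le_comap.mp hKH⟩
        rw [card_comap_mk, hHbar, hj, hm']
        ring
    · -- Case B: p divides n
      have hpm : ¬ p ∣ m := by
        intro h
        have h1 := Nat.dvd_gcd h hpn
        rw [Nat.Coprime.gcd_eq_one hmn] at h1
        exact hp.one_lt.ne' (Nat.dvd_one.mp h1)
      have hcopm : (p ^ j).Coprime m :=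
        Nat.Coprime.pow_left j ((Nat.Prime.coprime_iff_not_dvd hp).mpr hpm)
      obtain ⟨n', hn'⟩ := hcopm.dvd_of_dvd_mul_left hpj_dvd
      have hQ : Nat.card (G ⧸ N) = m * n' := by
        apply Nat.eq_of_mul_eq_mul_right hpjpos
        rw [← hj, ← hq, hG, hn', hj]
        ring
      have hn'dvd : n' ∣ n := ⟨p ^ j, by rw [hn']; ring⟩
      have hcop' : m.Coprime n' := Nat.Coprime.coprime_dvd_right hn'dvd hmn
      have hcopmp : m.Coprime (p ^ j) := hcopm.symm
      obtain ⟨IHC, IHD⟩ := IH (G ⧸ N) hqlt m n' hQ hcop'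
      have hL : ∀ Lbar : Subgroup (G ⧸ N), Nat.card Lbar = m →
          Nat.card (Lbar.comap (QuotientGroup.mk' N)) = m * p ^ j := by
        intro Lbar h
        rw [card_comap_mk, h, hj]
      have hsplit : ∀ L : Subgroup G, Nat.card L = m * p ^ j → L = ⊤ → n = p ^ j ∧ N.index = m := by
        intro L hLc hLtop
        have h1 : Nat.card G = m * p ^ j := by rw [← hLc, hLtop, Subgroup.card_top]
        constructor
        · exact Nat.eq_of_mul_eq_mul_left hmpos (by rw [← hG, h1])
        · have h2 := Subgroup.card_mul_index N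
          rw [hj, h1] at h2
          exact Nat.eq_of_mul_eq_mul_left hpjpos (by rw [h2]; ring)
      refine ⟨?_, ?_⟩
      · intro H₁ H₂ hH₁ hH₂
        have hH₁' := card_map_mk N H₁ hG hmn hH₁ hQ dvd_rfl hn'dvd
        have hH₂' := card_map_mk N H₂ hG hmn hH₂ hQ dvd_rfl hn'dvd
        obtain ⟨gbar, hg⟩ := IHC _ _ hH₁'.1 hH₂'.1
        obtain ⟨g, rfl⟩ := QuotientGroup.mk'_surjective N gbar
        have hcard₁ : Nat.card ↥(MulAut.conj g • H₁) = m := by rw [card_conj_smul, hH₁]
        have hLc : Nat.card ((H₂.map (QuotientGroup.mk' N)).comap (QuotientGroup.mk' N)) = m * p ^ j :=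
          hL _ hH₂'.1
        have hH₂L : H₂ ≤ (H₂.map (QuotientGroup.mk' N)).comap (QuotientGroup.mk' N) :=
          Subgroup.le_comap_map _ _
        have hH₁L : MulAut.conj g • H₁ ≤ (H₂.map (QuotientGroup.mk' N)).comap (QuotientGroup.mk' N) := by
          intro x hx
          rw [Subgroup.mem_comap, ← hg, mem_conj_smul]
          have h1 : g⁻¹ * x * g ∈ H₁ := (mem_conj_smul g x H₁).mp hx
          have h2 := Subgroup.mem_map_of_mem (QuotientGroup.mk' N) h1
          simpa using h2
        have key : ∃ x : G, MulAut.conj x • (MulAut.conj g • H₁) = H₂ := by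
          by_cases hLtop : (H₂.map (QuotientGroup.mk' N)).comap (QuotientGroup.mk' N) = ⊤
          · obtain ⟨hnp, hidx⟩ := hsplit _ hLc hLtop
            have hcopN : Nat.Coprime (Nat.card N) N.index := by rw [hj, hidx]; exact hcopm
            have hc₁ : N.IsComplement' (MulAut.conj g • H₁) :=
              Subgroup.isComplement'_of_coprime (by rw [hj, hcard₁, hG, hnp]; ring)
                (by rw [hj, hcard₁]; exact hcopm)
            have hc₂ : N.IsComplement' H₂ :=
              Subgroup.isComplement'_of_coprime (by rw [hj, hH₂, hG, hnp]; ring)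
                (by rw [hj, hH₂]; exact hcopm)
            exact sz_abelian_conj N hcopN _ H₂ hc₁ hc₂
          · have hLlt := card_lt_of_ne_top _ hLtop
            obtain ⟨IHC', -⟩ := IH _ hLlt m (p ^ j) hLc hcopmp
            obtain ⟨l, hl⟩ := IHC' ((MulAut.conj g • H₁).subgroupOf _) (H₂.subgroupOf _)
              (by rw [card_subgroupOf_of_le _ _ hH₁L, hcard₁])
              (by rw [card_subgroupOf_of_le _ _ hH₂L, hH₂])
            exact ⟨(l : G), conj_of_subgroupOf _ _ H₂ hH₁L hH₂L l hl⟩
        obtain ⟨x, hx⟩ := key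
        refine ⟨x * g, ?_⟩
        rw [map_mul, mul_smul]
        exact hx
      · intro K hK
        have hK' : (Nat.card (K.map (QuotientGroup.mk' N))).Coprime n' :=
          Nat.Coprime.coprime_dvd_left (Subgroup.card_map_dvd K _)
            (Nat.Coprime.coprime_dvd_right hn'dvd hK)
        obtain ⟨Lbar, hLbar, hKL⟩ := IHD _ hK'
        have hLc : Nat.card (Lbar.comap (QuotientGroup.mk' N)) = m * p ^ j := hL _ hLbar
        have hKLe : K ≤ Lbar.comap (QuotientGroup.mk' N) := Subgroup.map_le_iff_le_comap.mp hKL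
        have hKp : (Nat.card K).Coprime (p ^ j) := Nat.Coprime.coprime_dvd_right ⟨n', hn'⟩ hK
        by_cases hLtop : Lbar.comap (QuotientGroup.mk' N) = ⊤
        · obtain ⟨hnp, hidx⟩ := hsplit _ hLc hLtop
          have hcopN : Nat.Coprime (Nat.card N) N.index := by rw [hj, hidx]; exact hcopm
          obtain ⟨H₀, hH₀⟩ := Subgroup.exists_right_complement'_of_coprime hcopN
          have hH₀c : Nat.card H₀ = m := by
            have h1 := hH₀.card_mul_card
            rw [hj, hG, hnp] at h1
            exact Nat.eq_of_mul_eq_mul_left hpjpos (by rw [h1]; ring)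
          have hNK : N ⊓ K = ⊥ := by
            have h1 : Disjoint N K := Subgroup.disjoint_of_coprime_natCard (by rw [hj]; exact hKp.symm)
            exact h1.eq_bot
          have hMc : Nat.card ↥(N ⊔ K) = p ^ j * Nat.card K := by rw [card_sup_normal N K hNK, hj]
          have hH₀M : p ^ j * Nat.card ↥(H₀ ⊓ (N ⊔ K)) = Nat.card ↥(N ⊔ K) := by
            rw [← hj]
            exact card_complement_inf N H₀ (N ⊔ K) hH₀ le_sup_left
          have hH₀Mc : Nat.card ↥(H₀ ⊓ (N ⊔ K)) = Nat.card K :=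
            Nat.eq_of_mul_eq_mul_left hpjpos (hH₀M.trans hMc)
          by_cases hMtop : N ⊔ K = ⊤
          · refine ⟨K, ?_, le_rfl⟩
            have h1 : Nat.card G = p ^ j * Nat.card K := by rw [← hMc, hMtop, Subgroup.card_top]
            rw [hG, hnp] at h1
            exact Nat.eq_of_mul_eq_mul_left hpjpos (by rw [← h1]; ring)
          · have hMlt := card_lt_of_ne_top _ hMtop
            obtain ⟨IHC', -⟩ := IH _ hMlt (Nat.card K) (p ^ j) (by rw [hMc]; ring) hKp
            obtain ⟨x, hx⟩ := IHC' ((H₀ ⊓ (N ⊔ K)).subgroupOf _) (K.subgroupOf _)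
              (by rw [card_subgroupOf_of_le _ _ inf_le_right, hH₀Mc])
              (by rw [card_subgroupOf_of_le _ _ le_sup_right])
            have hconj := conj_of_subgroupOf (N ⊔ K) (H₀ ⊓ (N ⊔ K)) K inf_le_right le_sup_right x hx
            refine ⟨MulAut.conj (x : G) • H₀, by rw [card_conj_smul, hH₀c], ?_⟩
            intro y hy
            have hy' := hconj.symm.le hy
            rw [mem_conj_smul] at hy' ⊢
            exact hy'.1
        · have hLlt := card_lt_of_ne_top _ hLtop
          obtain ⟨-, IHD'⟩ := IH _ hLlt m (p ^ j) hLc hcopmp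
          obtain ⟨H', hH', hKH'⟩ := IHD' (K.subgroupOf _)
            (by rw [card_subgroupOf_of_le _ _ hKLe]; exact hKp)
          refine ⟨H'.map (Subgroup.subtype _), ?_, ?_⟩
          · rw [Subgroup.card_subtype]
            exact hH'
          · intro y hy
            exact ⟨⟨y, hKLe hy⟩, hKH' (Subgroup.mem_subgroupOf.mpr hy), rfl⟩

/-- Hall, conjugacy. -/
theorem hall_conj {G : Type u} [Group G] [Finite G] [Group.IsSolvable G] (m n : ℕ)
    (hG : Nat.card G = m * n) (hmn : m.Coprime n) (H K : Subgroup G)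
    (hH : Nat.card H = m) (hK : Nat.card K = m) : ∃ g : G, MulAut.conj g • H = K :=
  (hall_aux (Nat.card G) G le_rfl m n hG hmn).1 H K hH hK

/-- Hall, containment. -/
theorem hall_contain {G : Type u} [Group G] [Finite G] [Group.IsSolvable G] (m n : ℕ)
    (hG : Nat.card G = m * n) (hmn : m.Coprime n) (K : Subgroup G) (hK : (Nat.card K).Coprime n) :
    ∃ H : Subgroup G, Nat.card H = m ∧ K ≤ H :=
  (hall_aux (Nat.card G) G le_rfl m n hG hmn).2 K hK

/-- Hall, existence. -/
theorem hall_exists {G : Type u} [Group G] [Finite G] [Group.IsSolvable G] (m n : ℕ)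
    (hG : Nat.card G = m * n) (hmn : m.Coprime n) : ∃ H : Subgroup G, Nat.card H = m := by
  obtain ⟨H, hH, -⟩ := hall_contain m n hG hmn ⊥ (by simp)
  exact ⟨H, hH⟩

end Cfsg.Agent.Lib.Helper91.Hall
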