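import Mathlib
import Cfsg.Agent.H84.Transv

set_option autoImplicit false

/-! Torus element in the group generated by two conjugate automorphisms of order `p` of a
group of order `p ^ 2` (piece R7 of S5289). -/

namespace Cfsg.Agent.Lib.Helper91.TorusSq

open Cfsg.Agent.H84.Transv

section comm

variable {H : Type*} [CommGroup H]

theorem pow_apply_fix (β : MulAut H) (y : H) (hy : β y = y) (k : ℕ) : (β ^ k) y = y := by
  induction k with
  | zero => simp
  | succ k ih => rw [pow_succ', MulAut.mul_apply, ih, hy]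

theorem pow_congr_mod {p : ℕ} {x : H} (hx : x ^ p = 1) {m n : ℕ} (h : m ≡ n [MOD p]) :
    x ^ m = x ^ n := by
  rw [pow_eq_pow_mod m hx, pow_eq_pow_mod n hx, show m % p = n % p from h]

theorem torus_core [Finite H] {p : ℕ} [Fact p.Prime] (hH : Nat.card H = p ^ 2)
    (t t' : MulAut H) (h1 : Dg t ≤ Ax t) (h2 : Dg t' ≤ Ax t') (hc : Nat.card (Dg t) = p)
    (hc' : Nat.card (Dg t') = p)
    (hnp : ¬ IsPGroup p (Subgroup.closure ({t, t'} : Set (MulAut H))))
    (a b : ℕ) (hab : a * b ≡ 1 [MOD p]) :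
    ∃ δ ∈ Subgroup.closure ({t, t'} : Set (MulAut H)),
      (∀ x : H, ∃ y : H, δ x * x ^ b = y⁻¹ * t y) ∧ δ * t = t ^ (a * a) * δ := by
  have hp : p.Prime := Fact.out
  have hHp : IsPGroup p H := IsPGroup.of_card hH
  obtain ⟨hA, hB, -, -⟩ := pair_decomp hHp t t' h1 h2 hc hc' hnp
  obtain ⟨d', hd', hd'1⟩ := exists_ne_one_of_card hc'
  obtain ⟨d, hd_def⟩ : ∃ d, d = d'⁻¹ * t d' := ⟨_, rfl⟩
  have hd : d ∈ Dg t := by rw [hd_def]; exact cm_mem t d'
  have hd1 : d ≠ 1 := by
    intro h
    have : d' ∈ Dg t' ⊓ Ax t := ⟨hd', mem_Ax.mpr (by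
      rw [hd_def] at h; exact (inv_mul_eq_one.mp h).symm)⟩
    rw [hA] at this; exact hd'1 this
  have td' : t d' = d' * d := by rw [hd_def]; group
  have td : t d = d := mem_Ax.mp (h1 hd)
  have t'd' : t' d' = d' := mem_Ax.mp (h2 hd')
  obtain ⟨e, he_def⟩ : ∃ e, e = d⁻¹ * t' d := ⟨_, rfl⟩
  have he : e ∈ Dg t' := by rw [he_def]; exact cm_mem t' d
  have he1 : e ≠ 1 := by
    intro h
    have : d ∈ Dg t ⊓ Ax t' := ⟨hd, mem_Ax.mpr (by
      rw [he_def] at h; exact (inv_mul_eq_one.mp h).symm)⟩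
    rw [hB] at this; exact hd1 this
  have t'd : t' d = d * e := by rw [he_def]; group
  have t'e : t' e = e := mem_Ax.mp (h2 he)
  have hz : Subgroup.zpowers e = Dg t' := zpowers_eq_of_prime hc' he he1
  have hmem : d'⁻¹ ∈ Subgroup.zpowers e := by rw [hz]; exact inv_mem hd'
  obtain ⟨k, hk⟩ := mem_powers_iff_mem_zpowers.mpr hmem
  have hk' : e ^ k = d'⁻¹ := hk
  have sd : (t' ^ k) d = d * d'⁻¹ := by rw [pow_apply_of_fix' t' d e t'd t'e k, hk']
  have sd' : (t' ^ k) d' = d' := pow_apply_fix t' d' t'd' k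
  have hdp : d ^ p = 1 := by
    have := pow_card_eq_one' (G := Dg t) (x := ⟨d, hd⟩)
    rw [hc] at this
    exact congrArg Subtype.val this
  have hd'p : d' ^ p = 1 := by
    have := pow_card_eq_one' (G := Dg t') (x := ⟨d', hd'⟩)
    rw [hc'] at this
    exact congrArg Subtype.val this
  have hdab : d ^ (a * b) = d := by
    have := pow_congr_mod hdp hab
    rwa [pow_one] at this
  have hd'ab : d' ^ (b * a) = d' := by
    have := pow_congr_mod hd'p hab
    rwa [pow_one, mul_comm] at this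
  have Td : (t ^ a) d = d := pow_apply_fix t d td a
  have Td' : (t ^ a) d' = d' * d ^ a := pow_apply_of_fix' t d' d td' td a
  have Sd : ((t' ^ k) ^ b) d = d * (d'⁻¹) ^ b :=
    pow_apply_of_fix' (t' ^ k) d d'⁻¹ sd (by rw [map_inv, sd']) b
  have Sd' : ((t' ^ k) ^ b) d' = d' := pow_apply_fix (t' ^ k) d' sd' b
  have key1 : d * ((d' * d ^ a)⁻¹) ^ b = (d' ^ b)⁻¹ := by
    rw [mul_inv, mul_pow, inv_pow, inv_pow, ← pow_mul, hdab]
    apply Additive.ofMul.injective
    simp only [ofMul_mul, ofMul_inv]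
    abel
  have wd : (t ^ a * (t' ^ k) ^ b * t ^ a) d = (d' ^ b)⁻¹ := by
    rw [MulAut.mul_apply, MulAut.mul_apply, Td, Sd, map_mul, Td, map_pow, map_inv, Td', key1]
  have wd' : (t ^ a * (t' ^ k) ^ b * t ^ a) d' = d ^ a := by
    rw [MulAut.mul_apply, MulAut.mul_apply, Td', map_mul, Sd', map_pow, Sd, map_mul, map_pow,
      map_mul, map_pow, map_inv, Td', Td, key1, inv_pow, ← pow_mul, hd'ab]
    apply Additive.ofMul.injective
    simp only [ofMul_mul, ofMul_inv]
    abel
  have vd : (t * t' ^ k * t) d = d'⁻¹ := by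
    rw [MulAut.mul_apply, MulAut.mul_apply, td, sd, map_mul, map_inv, td, td']
    apply Additive.ofMul.injective
    simp only [ofMul_mul, ofMul_inv]
    abel
  have vd' : (t * t' ^ k * t) d' = d := by
    rw [MulAut.mul_apply, MulAut.mul_apply, td', map_mul, sd', sd, map_mul, map_mul, map_inv,
      td', td]
    apply Additive.ofMul.injective
    simp only [ofMul_mul, ofMul_inv]
    abel
  obtain ⟨δ, hδ_def⟩ : ∃ δ : MulAut H, δ = (t ^ a * (t' ^ k) ^ b * t ^ a) * (t * t' ^ k * t) :=
    ⟨_, rfl⟩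
  have δd : δ d = (d ^ a)⁻¹ := by
    rw [hδ_def, MulAut.mul_apply, vd, map_inv, wd']
  have δd' : δ d' = (d' ^ b)⁻¹ := by
    rw [hδ_def, MulAut.mul_apply, vd', wd]
  have ht : t ∈ Subgroup.closure ({t, t'} : Set (MulAut H)) := Subgroup.subset_closure (by simp)
  have ht' : t' ∈ Subgroup.closure ({t, t'} : Set (MulAut H)) :=
    Subgroup.subset_closure (by simp)
  have hδm : δ ∈ Subgroup.closure ({t, t'} : Set (MulAut H)) := by
    rw [hδ_def]
    have hs : t' ^ k ∈ Subgroup.closure ({t, t'} : Set (MulAut H)) := Subgroup.pow_mem _ ht' k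
    exact Subgroup.mul_mem _
      (Subgroup.mul_mem _ (Subgroup.mul_mem _ (Subgroup.pow_mem _ ht a) (Subgroup.pow_mem _ hs b))
        (Subgroup.pow_mem _ ht a))
      (Subgroup.mul_mem _ (Subgroup.mul_mem _ ht hs) ht)
  have hzd : Subgroup.zpowers d = Dg t := zpowers_eq_of_prime hc hd hd1
  have hzd' : Subgroup.zpowers d' = Dg t' := zpowers_eq_of_prime hc' hd' hd'1
  have htop : Subgroup.zpowers d ⊔ Subgroup.zpowers d' = ⊤ := by
    rw [hzd, hzd']
    have hle1 : Nat.card (Dg t) ≤ Nat.card (Dg t ⊔ Dg t' : Subgroup H) :=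
      Subgroup.card_le_of_le le_sup_left
    have hdvd : Nat.card (Dg t ⊔ Dg t' : Subgroup H) ∣ p ^ 2 :=
      hH ▸ Subgroup.card_subgroup_dvd_card _
    obtain ⟨m, hm, hmc⟩ := (Nat.dvd_prime_pow hp).mp hdvd
    have hp2 := hp.two_le
    interval_cases m
    · exfalso
      rw [hmc, hc, pow_zero] at hle1
      omega
    · exfalso
      have heq : Dg t = Dg t ⊔ Dg t' :=
        Subgroup.eq_of_le_of_card_ge le_sup_left (by rw [hmc, hc, pow_one])
      have hle : Dg t' ≤ Dg t := le_sup_right.trans heq.ge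
      have : d' ∈ Dg t' ⊓ Ax t := ⟨hd', h1 (hle hd')⟩
      rw [hA] at this; exact hd'1 this
    · exact Subgroup.eq_top_of_card_eq _ (by rw [hmc, hH])
  refine ⟨δ, hδm, ?_, ?_⟩
  · intro x
    have hle : (⊤ : Subgroup H) ≤ (Dg t).comap (δ.toMonoidHom * powMonoidHom b) := by
      rw [← htop]
      refine sup_le ((Subgroup.zpowers_le).mpr ?_) ((Subgroup.zpowers_le).mpr ?_)
      · show δ d * d ^ b ∈ Dg t
        rw [δd]
        exact (Dg t).mul_mem ((Dg t).inv_mem ((Dg t).pow_mem hd a)) ((Dg t).pow_mem hd b)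
      · show δ d' * d' ^ b ∈ Dg t
        rw [δd', inv_mul_cancel]
        exact (Dg t).one_mem
    have hx : δ x * x ^ b ∈ Dg t := hle (Subgroup.mem_top x)
    obtain ⟨y, hy⟩ := hx
    exact ⟨y, hy.symm⟩
  · have hext : ∀ f g : H →* H, f d = g d → f d' = g d' → ∀ x, f x = g x := by
      intro f g e1 e2 x
      have hle : (⊤ : Subgroup H) ≤ f.eqLocus g := by
        rw [← htop]
        exact sup_le ((Subgroup.zpowers_le).mpr e1) ((Subgroup.zpowers_le).mpr e2)
      exact hle (Subgroup.mem_top x)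
    ext x
    refine hext (δ * t).toMonoidHom (t ^ (a * a) * δ).toMonoidHom ?_ ?_ x
    · show δ (t d) = (t ^ (a * a)) (δ d)
      rw [td, δd, map_inv, map_pow, pow_apply_fix t d td]
    · show δ (t d') = (t ^ (a * a)) (δ d')
      rw [td', map_mul, δd, δd', map_inv, map_pow, pow_apply_of_fix' t d' d td' td, mul_pow,
        ← pow_mul]
      have : d ^ (a * a * b) = d ^ a := by
        have hmod : a * a * b ≡ a [MOD p] := by
          have := Nat.ModEq.mul_left a hab
          rwa [mul_one, ← mul_assoc] at this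
        exact pow_congr_mod hdp hmod
      rw [this, mul_inv]

end comm

/-- [R7] torus element in the group generated by two conjugate automorphisms of order `p` of a
group of order `p ^ 2` -/
theorem torus_sq {H : Type*} [Group H] [Finite H] {p : ℕ} [Fact p.Prime]
    (hH : Nat.card H = p ^ 2) (t g : MulAut H) (htp : t ^ p = 1)
    (hnp : ¬ IsPGroup p (Subgroup.closure ({t, g * t * g⁻¹} : Set (MulAut H))))
    (a b : ℕ) (hab : a * b ≡ 1 [MOD p]) :
    ∃ δ ∈ Subgroup.closure ({t, g * t * g⁻¹} : Set (MulAut H)),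
      (∀ x : H, ∃ y : H, δ x * x ^ b = y⁻¹ * t y) ∧ δ * t = t ^ (a * a) * δ := by
  have hcomm : ∀ a b : H, a * b = b * a :=
    (IsPGroup.isMulCommutative_of_card_eq_prime_sq hH).is_comm.comm
  let _ : CommGroup H := { (inferInstance : Group H) with mul_comm := hcomm }
  have hp : p.Prime := Fact.out
  have ht1 : t ≠ 1 := by
    intro h
    apply hnp
    have : Subgroup.closure ({t, g * t * g⁻¹} : Set (MulAut H)) = ⊥ := by
      rw [h]; simp
    rw [this]; exact IsPGroup.of_bot
  have hAx : Nat.card (Ax t) = p := by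
    classical
    have hfix : Nat.card H ≡ Nat.card (Ax t) [MOD p] := by
      have : Fintype H := Fintype.ofFinite H
      have hpow : ∀ k : ℕ, (show Function.End H from ⇑t) ^ k = ⇑(t ^ k) := by
        intro k
        induction k with
        | zero => rfl
        | succ k ih => rw [pow_succ, ih]; rfl
      have hf : (show Function.End H from ⇑t) ^ p ^ 1 = 1 := by
        rw [pow_one, hpow, htp]; rfl
      have h0 := Equiv.Perm.card_fixedPoints_modEq (α := H) (p := p) (n := 1) hf
      have e : Nat.card (Function.fixedPoints (show Function.End H from ⇑t)) =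
          Nat.card (Ax t) :=
        Nat.card_congr (Equiv.subtypeEquivRight (fun x => by rw [mem_Ax]; rfl))
      rw [Nat.card_eq_fintype_card, ← e, Nat.card_eq_fintype_card]
      exact h0
    have hdvdp : p ∣ Nat.card (Ax t) := by
      have h0 : Nat.card H ≡ 0 [MOD p] := by
        rw [hH]; exact (Nat.modEq_zero_iff_dvd).mpr (dvd_pow_self p two_ne_zero)
      exact (Nat.modEq_zero_iff_dvd).mp (hfix.symm.trans h0)
    have hdvd : Nat.card (Ax t) ∣ p ^ 2 := hH ▸ Subgroup.card_subgroup_dvd_card (Ax t)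
    obtain ⟨m, hm, hmc⟩ := (Nat.dvd_prime_pow hp).mp hdvd
    interval_cases m
    · exfalso
      rw [hmc, pow_zero] at hdvdp
      exact hp.one_lt.ne' (Nat.dvd_one.mp hdvdp)
    · rw [hmc, pow_one]
    · exfalso
      apply ht1
      have htop : Ax t = ⊤ := Subgroup.eq_top_of_card_eq _ (by rw [hmc, hH])
      ext x
      have : x ∈ Ax t := by rw [htop]; exact Subgroup.mem_top x
      exact mem_Ax.mp this
  have hc : Nat.card (Dg t) = p := by
    have := Subgroup.card_mul_index (Ax t)
    rw [index_Ax, hAx, hH, sq] at this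
    exact Nat.eq_of_mul_eq_mul_left hp.pos this
  have h1 : Dg t ≤ Ax t := by
    rcases inf_eq_bot_or_le (Ax t) hc with h | h
    · exfalso
      obtain ⟨d, hd, hd1⟩ := exists_ne_one_of_card hc
      have hz : Subgroup.zpowers d = Dg t := zpowers_eq_of_prime hc hd hd1
      have htd : t d ∈ Subgroup.zpowers d := by
        rw [hz]
        have : t d = d * (d⁻¹ * t d) := by group
        rw [this]; exact (Dg t).mul_mem hd (cm_mem t d)
      obtain ⟨m, hm⟩ := mem_powers_iff_mem_zpowers.mpr htd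
      have hm' : d ^ m = t d := hm
      have hpow : ∀ k : ℕ, (t ^ k) d = d ^ (m ^ k) := by
        intro k
        induction k with
        | zero => simp
        | succ k ih =>
          rw [pow_succ', MulAut.mul_apply, ih, map_pow, ← hm', ← pow_mul, ← pow_succ']
      have e1 : d ^ (m ^ p) = d := by rw [← hpow p, htp]; rfl
      have hdp : d ^ p = 1 := by
        have := pow_card_eq_one' (G := Dg t) (x := ⟨d, hd⟩)
        rw [hc] at this
        exact congrArg Subtype.val this
      have hfer : m ^ p ≡ m [MOD p] := by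
        rw [← ZMod.natCast_eq_natCast_iff]
        push_cast
        exact ZMod.pow_card _
      have e2 : d ^ m = d := by rw [← pow_congr_mod hdp hfer]; exact e1
      have : d ∈ Dg t ⊓ Ax t := ⟨hd, mem_Ax.mpr (by rw [← hm', e2])⟩
      rw [h] at this; exact hd1 this
    · exact h
  exact torus_core hH t (g * t * g⁻¹) h1 (Dg_le_Ax_conj h1 g) hc (by rw [card_Dg_conj, hc]) hnp
    a b hab

end Cfsg.Agent.Lib.Helper91.TorusSq
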