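import Mathlib
import Cfsg.Agent.Lib.Helper16.BRStmt
import Cfsg.Agent.Lib.Helper80.Integrality
import Cfsg.Agent.Lib.Helper80.DefOneLoc

/-!
Piece [DEG] of S0999 / S4701 (Brauer–Reynolds): a character with value `±1` at a generator of a
Sylow `p`-subgroup `P` of order `p` has degree dividing `|G : C_G(P)|`.
-/

set_option autoImplicit false

namespace Cfsg.Agent.Lib.Helper91.BRDEG

universe u

theorem dvd_of_isIntegral_mul_div {a b : ℕ} (hb : b ≠ 0) (s : ℤ) (hs : s = 1 ∨ s = -1)
    (h : IsIntegral ℤ ((a : ℂ) * (s : ℂ) / (b : ℂ))) : b ∣ a := by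
  apply Cfsg.Agent.Lib.Helper80.Integrality.dvd_of_isIntegral_div hb
  rcases hs with rfl | rfl
  · simpa using h
  · have := h.neg
    convert this using 1
    push_cast; ring

theorem main : Cfsg.Agent.Lib.Helper16.BRStmt.DegDvd.{u} := by
  intro G _ _ p _ P hP χ s hs z hz hz1 hχz
  have hint := Cfsg.Agent.Lib.Helper80.Integrality.isIntegral_centralChar χ z
  have hd := Cfsg.Agent.Lib.Helper80.Integrality.apply_one_eq_charDegree
    (Cfsg.Agent.Lib.Helper80.Integrality.isCharacter_of_isIrrCharacter χ.2)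
  have hpos := Cfsg.Agent.Lib.Helper80.Integrality.charDegree_pos χ
  rw [Cfsg.Agent.Lib.Helper80.DefOneLoc.centralizer_eq P hP hz hz1]
  unfold Cfsg.centralChar at hint
  rw [hχz, hd] at hint
  exact dvd_of_isIntegral_mul_div hpos.ne' s hs hint

end Cfsg.Agent.Lib.Helper91.BRDEG
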