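import Mathlib
import Cfsg.Agent.Lib.Helper16.BRStmt
import Cfsg.Agent.Lib.Helper80.Integrality
import Cfsg.Agent.Lib.Helper80.DefOneLoc
import Cfsg.Agent.Lib.Helper91.BRDEG

/-!
Piece [DEGSUM] of S0999 / S4701 (Brauer–Reynolds): a family of irreducible characters of equal
degree `f` whose values at a generator of `P` add up to `±1` has `f ∣ |G : C_G(P)|`.
-/

set_option autoImplicit false

namespace Cfsg.Agent.Lib.Helper91.BRDEGSUM

universe u

theorem main : Cfsg.Agent.Lib.Helper16.BRStmt.DegDvdSum.{u} := by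
  intro G _ _ p _ P hP Y hYne f hYf s hs z hz hz1 hsum
  obtain ⟨θ0, hθ0⟩ := hYne
  have hf0 : f ≠ 0 := by
    rw [← hYf θ0 hθ0]
    exact (Cfsg.Agent.Lib.Helper80.Integrality.charDegree_pos θ0).ne'
  rw [Cfsg.Agent.Lib.Helper80.DefOneLoc.centralizer_eq P hP hz hz1]
  have hint : IsIntegral ℤ (∑ᶠ θ ∈ Y, Cfsg.centralChar (θ : G → ℂ) z) :=
    finsum_mem_induction (fun x => IsIntegral ℤ x) isIntegral_zero (fun _ _ hx hy => hx.add hy)
      (fun θ _ => Cfsg.Agent.Lib.Helper80.Integrality.isIntegral_centralChar θ z)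
  have e : ∑ᶠ θ ∈ Y, Cfsg.centralChar (θ : G → ℂ) z
      = ((Subgroup.centralizer ({z} : Set G)).index : ℂ) * (s : ℂ) / (f : ℂ) := by
    have h1 : ∀ θ ∈ Y, Cfsg.centralChar (θ : G → ℂ) z =
        (((Subgroup.centralizer ({z} : Set G)).index : ℂ) / (f : ℂ)) * (θ : G → ℂ) z := by
      intro θ hθ
      unfold Cfsg.centralChar
      rw [Cfsg.Agent.Lib.Helper80.Integrality.apply_one_eq_charDegree
        (Cfsg.Agent.Lib.Helper80.Integrality.isCharacter_of_isIrrCharacter θ.2), hYf θ hθ]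
      ring
    rw [finsum_mem_congr rfl h1, ← mul_finsum_mem, hsum]
    ring
  rw [e] at hint
  exact Cfsg.Agent.Lib.Helper91.BRDEG.dvd_of_isIntegral_mul_div hf0 s hs hint

end Cfsg.Agent.Lib.Helper91.BRDEGSUM
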