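import Mathlib
import Cfsg.Agent.Lib.Helper91.Hall

set_option autoImplicit false

open scoped Pointwise

namespace Cfsg.Agent.Lib.Helper91.SubCount

/-- Orbit congruence: if `T ⊆ Y` are invariant sets of a finite `G`-set and every point of
`Y \ T` has stabilizer of index divisible by `d`, then `|Y| ≡ |T| mod d`. -/
theorem card_modEq_of_invariant {G X : Type*} [Group G] [MulAction G X] [Finite X]
    (Y T : Set X) (hTY : T ⊆ Y)
    (hY : ∀ (g : G) (x : X), x ∈ Y → g • x ∈ Y)
    (hT : ∀ (g : G) (x : X), x ∈ T → g • x ∈ T)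
    (d : ℕ) (hd : ∀ x ∈ Y, x ∉ T → d ∣ (MulAction.stabilizer G x).index) :
    Nat.card Y ≡ Nat.card T [MOD d] := by
  classical
  have := Fintype.ofFinite X
  have hinv : ∀ (g : G) (x : X), x ∈ Y \ T → g • x ∈ Y \ T := by
    intro g x hx
    refine ⟨hY g x hx.1, fun h => hx.2 ?_⟩
    have := hT g⁻¹ _ h
    rwa [inv_smul_smul] at this
  have key : d ∣ (Y \ T).ncard := by
    have hZ : (Y \ T).ncard = (Finset.univ.filter (fun x => x ∈ Y \ T)).card := by
      rw [← Set.ncard_coe_finset]
      congr 1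
      ext x
      simp
    rw [hZ, Finset.card_eq_sum_card_fiberwise (f := (Quotient.mk (MulAction.orbitRel G X)))
      (t := Finset.univ) (fun x _ => Finset.mem_univ _)]
    apply Finset.dvd_sum
    intro ω _
    by_cases hne : (Finset.filter (fun x => Quotient.mk (MulAction.orbitRel G X) x = ω)
        (Finset.univ.filter (fun x => x ∈ Y \ T))) = ∅
    · rw [hne]; simp
    · obtain ⟨x₁, hx₁⟩ := Finset.nonempty_iff_ne_empty.mpr hne
      simp only [Finset.mem_filter, Finset.mem_univ, true_and] at hx₁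
      obtain ⟨hx₁Z, hx₁ω⟩ := hx₁
      have hset : ((Finset.filter (fun x => Quotient.mk (MulAction.orbitRel G X) x = ω)
          (Finset.univ.filter (fun x => x ∈ Y \ T)) : Finset X) : Set X) =
          MulAction.orbit G x₁ := by
        ext x
        simp only [Finset.coe_filter, Finset.mem_filter, Finset.mem_univ, true_and,
          Set.mem_ofPred_eq]
        constructor
        · rintro ⟨-, hxω⟩
          rw [← hx₁ω] at hxω
          exact MulAction.orbitRel_apply.mp (Quotient.exact hxω)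
        · rintro ⟨g, rfl⟩
          refine ⟨hinv g x₁ hx₁Z, ?_⟩
          rw [← hx₁ω]
          exact Quotient.sound (MulAction.orbitRel_apply.mpr ⟨g, rfl⟩)
      rw [← Set.ncard_coe_finset, hset, ← MulAction.index_stabilizer]
      exact hd x₁ hx₁Z.1 hx₁Z.2
  have hsplit : Y.ncard = T.ncard + (Y \ T).ncard := by
    rw [add_comm]
    exact (Set.ncard_sdiff_add_ncard_of_subset hTY (Set.toFinite _)).symm
  rw [Nat.card_coe_set_eq, Nat.card_coe_set_eq, hsplit]
  exact ((Nat.modEq_iff_dvd' (Nat.le_add_right _ _)).mpr (by simpa using key)).symm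

theorem card_sets (G : Type*) [Finite G] (k : ℕ) :
    Nat.card {S : Set G // S.ncard = k} = Nat.choose (Nat.card G) k := by
  classical
  have := Fintype.ofFinite G
  rw [Nat.card_eq_fintype_card (α := G), ← Fintype.card_finset_len, ← Nat.card_eq_fintype_card]
  apply Nat.card_congr
  exact (Fintype.finsetEquivSet.subtypeEquiv (fun s => by simp [Fintype.finsetEquivSet])).symm

/-- the coset of `x.2` as a set -/
def cosetSet {G : Type*} [Group G] (k : ℕ)
    (x : Σ H : {H : Subgroup G // Nat.card H = k}, G ⧸ H.1) : Set G :=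
  {g | (QuotientGroup.mk g : G ⧸ x.1.1) = x.2}

theorem mem_cosetSet {G : Type*} [Group G] (k : ℕ)
    (x : Σ H : {H : Subgroup G // Nat.card H = k}, G ⧸ H.1) (g : G) :
    g ∈ cosetSet k x ↔ (QuotientGroup.mk g : G ⧸ x.1.1) = x.2 := Iff.rfl

theorem cosetSet_injective {G : Type*} [Group G] (k : ℕ) :
    Function.Injective (cosetSet (G := G) k) := by
  rintro ⟨⟨H, hH⟩, q⟩ ⟨⟨H', hH'⟩, q'⟩ h
  have hmem : ∀ g : G, (QuotientGroup.mk g : G ⧸ H) = q ↔
      (QuotientGroup.mk g : G ⧸ H') = q' := by
    intro g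
    have h1 := mem_cosetSet k ⟨⟨H, hH⟩, q⟩ g
    have h2 := mem_cosetSet k ⟨⟨H', hH'⟩, q'⟩ g
    rw [h] at h1
    exact h1.symm.trans h2
  obtain ⟨s, rfl⟩ := QuotientGroup.mk_surjective q
  have hs' : (QuotientGroup.mk s : G ⧸ H') = q' := (hmem s).mp rfl
  have hHH : H = H' := by
    ext x
    constructor
    · intro hx
      have h1 : (QuotientGroup.mk (s * x) : G ⧸ H) = QuotientGroup.mk s := by
        rw [QuotientGroup.eq]
        simpa using hx
      have h2 := (hmem (s * x)).mp h1
      rw [← hs', QuotientGroup.eq] at h2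
      simpa using h2
    · intro hx
      have h1 : (QuotientGroup.mk (s * x) : G ⧸ H') = q' := by
        rw [← hs', QuotientGroup.eq]
        simpa using hx
      have h2 := (hmem (s * x)).mpr h1
      rw [QuotientGroup.eq] at h2
      simpa using h2
  subst hHH
  rw [← hs']

theorem range_cosetSet {G : Type*} [Group G] (k : ℕ) :
    Set.range (cosetSet (G := G) k) =
      {S : Set G | ∃ H : Subgroup G, Nat.card H = k ∧ ∃ s : G, S = s • (H : Set G)} := by
  have key : ∀ (H : Subgroup G) (hH : Nat.card H = k) (s : G),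
      cosetSet k ⟨⟨H, hH⟩, QuotientGroup.mk s⟩ = s • (H : Set G) := by
    intro H hH s
    ext g
    rw [mem_cosetSet, Set.mem_smul_set_iff_inv_smul_mem, eq_comm, QuotientGroup.eq]
    rfl
  ext S
  constructor
  · rintro ⟨⟨⟨H, hH⟩, q⟩, rfl⟩
    obtain ⟨s, rfl⟩ := QuotientGroup.mk_surjective q
    exact ⟨H, hH, s, key H hH s⟩
  · rintro ⟨H, hH, s, rfl⟩
    exact ⟨⟨⟨H, hH⟩, QuotientGroup.mk s⟩, key H hH s⟩

theorem card_cosets {G : Type*} [Group G] [Finite G] (k m : ℕ) (hk : 0 < k)
    (hG : Nat.card G = k * m) :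
    Nat.card {S : Set G | ∃ H : Subgroup G, Nat.card H = k ∧ ∃ s : G, S = s • (H : Set G)} =
      Nat.card {H : Subgroup G // Nat.card H = k} * m := by
  classical
  rw [← range_cosetSet, ← Nat.card_congr (Equiv.ofInjective _ (cosetSet_injective k))]
  have := Fintype.ofFinite {H : Subgroup G // Nat.card H = k}
  rw [Nat.card_sigma]
  have hm : ∀ H : {H : Subgroup G // Nat.card H = k}, Nat.card (G ⧸ H.1) = m := by
    intro H
    have h1 := Subgroup.card_mul_index H.1
    rw [H.2, hG] at h1
    exact Nat.eq_of_mul_eq_mul_left hk h1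
  simp only [hm, Finset.sum_const, Finset.card_univ, smul_eq_mul, Nat.card_eq_fintype_card]

theorem stab_card_dvd {G : Type*} [Group G] [Finite G] (S : Set G) :
    Nat.card (MulAction.stabilizer G S) ∣ S.ncard := by
  have h1 : S⁻¹ = (QuotientGroup.mk : G → G ⧸ MulAction.stabilizer G S) ⁻¹'
      ((QuotientGroup.mk : G → G ⧸ MulAction.stabilizer G S) '' S⁻¹) := by
    apply Set.Subset.antisymm (Set.subset_preimage_image _ _)
    rintro x ⟨y, hy, hxy⟩
    rw [QuotientGroup.eq] at hxy
    rw [Set.mem_inv] at hy ⊢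
    have hk : (y⁻¹ * x)⁻¹ ∈ MulAction.stabilizer G S := Subgroup.inv_mem _ hxy
    rw [MulAction.mem_stabilizer_iff] at hk
    rw [← hk]
    exact ⟨y⁻¹, hy, by simp⟩
  have h2 := QuotientGroup.card_preimage_mk (MulAction.stabilizer G S)
    ((QuotientGroup.mk : G → G ⧸ MulAction.stabilizer G S) '' S⁻¹)
  rw [← h1, Nat.card_coe_set_eq, Set.ncard_inv] at h2
  exact Dvd.intro _ h2.symm

theorem coset_of_stab_card {G : Type*} [Group G] [Finite G] (S : Set G) (hS : S.Nonempty)
    (h : Nat.card (MulAction.stabilizer G S) = S.ncard) :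
    ∃ H : Subgroup G, Nat.card H = S.ncard ∧ ∃ s : G, S = s • (H : Set G) := by
  obtain ⟨s, hs⟩ := hS
  have hR : {x : G | x * s⁻¹ ∈ MulAction.stabilizer G S} = S := by
    apply Set.eq_of_subset_of_ncard_le _ _ (Set.toFinite _)
    · intro x hx
      have hx' : x * s⁻¹ ∈ MulAction.stabilizer G S := hx
      rw [MulAction.mem_stabilizer_iff] at hx'
      rw [← hx']
      exact ⟨s, hs, by simp⟩
    · rw [← h]
      have h3 : {x : G | x * s⁻¹ ∈ MulAction.stabilizer G S} =
          (fun x => x * s) '' ((MulAction.stabilizer G S : Subgroup G) : Set G) := by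
        ext x
        constructor
        · intro hx
          exact ⟨x * s⁻¹, hx, by simp⟩
        · rintro ⟨y, hy, rfl⟩
          simpa using hy
      rw [h3, Set.ncard_image_of_injective _ (mul_left_injective s)]
      exact (Nat.card_coe_set_eq _).le
  refine ⟨MulAut.conj s⁻¹ • MulAction.stabilizer G S, ?_, s, ?_⟩
  · rw [Hall.card_conj_smul]
    exact h
  · ext x
    rw [Set.mem_smul_set_iff_inv_smul_mem]
    rw [SetLike.mem_coe, Hall.mem_conj_smul]
    constructor
    · intro hx
      rw [← hR] at hx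
      simpa [mul_assoc] using hx
    · intro hx
      rw [← hR]
      simpa [mul_assoc] using hx

theorem stab_index_dvd {G : Type*} [Group G] [Finite G] (p β m : ℕ) (hp : p.Prime)
    (hG : Nat.card G = p ^ β * m) (S : Set G) (hS : S.ncard = p ^ β)
    (hST : ¬ ∃ H : Subgroup G, Nat.card H = p ^ β ∧ ∃ s : G, S = s • (H : Set G)) :
    p * m ∣ (MulAction.stabilizer G S).index := by
  have h1 := stab_card_dvd S
  rw [hS] at h1
  obtain ⟨j, hj, hKj⟩ := (Nat.dvd_prime_pow hp).mp h1
  have hne : j ≠ β := by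
    rintro rfl
    apply hST
    have hSne : S.Nonempty := by
      rw [← Set.ncard_pos (Set.toFinite _), hS]
      exact pow_pos hp.pos _
    have := coset_of_stab_card S hSne (by rw [hKj, hS])
    rwa [hS] at this
  have hlt : j < β := lt_of_le_of_ne hj hne
  have h2 := Subgroup.card_mul_index (MulAction.stabilizer G S)
  rw [hKj, hG] at h2
  obtain ⟨e, rfl⟩ := Nat.exists_eq_add_of_lt hlt
  have h3 : (MulAction.stabilizer G S).index = p ^ (e + 1) * m := by
    apply Nat.eq_of_mul_eq_mul_left (pow_pos hp.pos j)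
    rw [h2]
    ring
  rw [h3, pow_succ]
  exact ⟨p ^ e, by ring⟩

/-- Wielandt's congruence. -/
theorem choose_modEq (G : Type*) [Group G] [Finite G] (p β m : ℕ) (hp : p.Prime)
    (hG : Nat.card G = p ^ β * m) :
    Nat.choose (p ^ β * m) (p ^ β) ≡
      Nat.card {H : Subgroup G // Nat.card H = p ^ β} * m [MOD p * m] := by
  have hTY : {S : Set G | ∃ H : Subgroup G, Nat.card H = p ^ β ∧ ∃ s : G, S = s • (H : Set G)} ⊆
      {S : Set G | S.ncard = p ^ β} := by
    rintro S ⟨H, hH, s, rfl⟩
    show (s • (H : Set G)).ncard = p ^ β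
    rw [Set.ncard_smul_set, ← hH]
    exact (Nat.card_coe_set_eq _).symm
  have hY : ∀ (g : G) (S : Set G), S ∈ {S : Set G | S.ncard = p ^ β} →
      g • S ∈ {S : Set G | S.ncard = p ^ β} := by
    intro g S hS
    show (g • S).ncard = p ^ β
    rw [Set.ncard_smul_set]
    exact hS
  have hT : ∀ (g : G) (S : Set G),
      S ∈ {S : Set G | ∃ H : Subgroup G, Nat.card H = p ^ β ∧ ∃ s : G, S = s • (H : Set G)} →
      g • S ∈ {S : Set G | ∃ H : Subgroup G, Nat.card H = p ^ β ∧
        ∃ s : G, S = s • (H : Set G)} := by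
    rintro g S ⟨H, hH, s, rfl⟩
    exact ⟨H, hH, g * s, by rw [mul_smul]⟩
  have h := card_modEq_of_invariant (G := G) (X := Set G) _ _ hTY hY hT (p * m)
    (fun S hS hST => stab_index_dvd p β m hp hG S hS hST)
  rw [card_cosets (p ^ β) m (pow_pos hp.pos _) hG] at h
  rw [← hG, ← card_sets G (p ^ β)]
  exact h

theorem cyclic_count (n p β : ℕ) (hn : 0 < n) (hp : p.Prime) (hdiv : p ^ β ∣ n) :
    Nat.card {H : Subgroup (Multiplicative (ZMod n)) // Nat.card H = p ^ β} = 1 := by
  classical
  have : NeZero n := ⟨hn.ne'⟩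
  have : Fact p.Prime := ⟨hp⟩
  have hcard : Nat.card (Multiplicative (ZMod n)) = n := by
    rw [Nat.card_eq_fintype_card, Fintype.card_multiplicative, ZMod.card]
  have hd0 : 0 < p ^ β := pow_pos hp.pos _
  have key : ∀ H : Subgroup (Multiplicative (ZMod n)), Nat.card H = p ^ β →
      (H : Set (Multiplicative (ZMod n))) = {x | x ^ (p ^ β) = 1} := by
    intro H hH
    apply Set.eq_of_subset_of_ncard_le _ _ (Set.toFinite _)
    · intro x hx
      have h1 := pow_card_eq_one' (G := H) (x := ⟨x, hx⟩)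
      rw [hH] at h1
      exact congrArg Subtype.val h1
    · have h1 := IsCyclic.card_pow_eq_one_le (α := Multiplicative (ZMod n)) hd0
      rw [← Set.ncard_coe_finset] at h1
      have h2 : ((Finset.univ.filter (fun a : Multiplicative (ZMod n) => a ^ (p ^ β) = 1) :
          Finset (Multiplicative (ZMod n))) : Set (Multiplicative (ZMod n))) =
          {x | x ^ (p ^ β) = 1} := by
        ext x
        simp
      rw [h2] at h1
      refine h1.trans ?_
      rw [← hH]
      exact (Nat.card_coe_set_eq _).ge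
  rw [Nat.card_eq_one_iff_unique]
  constructor
  · constructor
    rintro ⟨H, hH⟩ ⟨K, hK⟩
    apply Subtype.ext
    apply SetLike.coe_injective
    rw [key H hH, key K hK]
  · obtain ⟨K, hK⟩ := Sylow.exists_subgroup_card_pow_prime p (G := Multiplicative (ZMod n))
      (by rw [hcard]; exact hdiv)
    exact ⟨⟨K, hK⟩⟩

/-- Frobenius: the number of subgroups of order `p ^ β` is `≡ 1 mod p`. -/
theorem card_subgroups_modEq_one (G : Type*) [Group G] [Finite G] (p β : ℕ) (hp : p.Prime)
    (hdiv : p ^ β ∣ Nat.card G) :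
    Nat.card {H : Subgroup G // Nat.card H = p ^ β} ≡ 1 [MOD p] := by
  obtain ⟨m, hm⟩ := hdiv
  have hm0 : m ≠ 0 := by
    rintro rfl
    rw [mul_zero] at hm
    exact Nat.card_pos.ne' hm
  have hn : 0 < p ^ β * m := Nat.mul_pos (pow_pos hp.pos _) (Nat.pos_of_ne_zero hm0)
  have : NeZero (p ^ β * m) := ⟨hn.ne'⟩
  have hcard : Nat.card (Multiplicative (ZMod (p ^ β * m))) = p ^ β * m := by
    rw [Nat.card_eq_fintype_card, Fintype.card_multiplicative, ZMod.card]
  have h1 := choose_modEq G p β m hp hm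
  have h2 := choose_modEq (Multiplicative (ZMod (p ^ β * m))) p β m hp hcard
  rw [cyclic_count (p ^ β * m) p β hn hp (Dvd.intro _ rfl)] at h2
  have h3 := h1.symm.trans h2
  have h4 : m * Nat.card {H : Subgroup G // Nat.card H = p ^ β} ≡ m * 1 [MOD m * p] := by
    rw [mul_comm m (Nat.card _), mul_comm m 1, mul_comm m p]
    exact h3
  exact Nat.ModEq.mul_left_cancel' hm0 h4

end Cfsg.Agent.Lib.Helper91.SubCount
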