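import Mathlib
import Cfsg.Agent.Lib.Helper45.S8Stmt

set_option autoImplicit false

namespace Cfsg.Agent.Lib.Helper91.S8LINORD

open Cfsg.Agent.Lib.Helper45.S8Stmt
open Matrix

universe u

theorem main : Cfsg.Agent.Lib.Helper45.S8Stmt.LinOrd.{u} := by
  intro F _ ι _ _ Q X hX
  let e : GL ι F ≃* ((ι → F) ≃ₗ[F] (ι → F)) :=
    Matrix.GeneralLinearGroup.toLin.trans
      (LinearMap.GeneralLinearGroup.generalLinearEquiv F (ι → F))
  have h : ∀ (g : GL ι F) (u : ι → F), e g u = (g : Matrix ι ι F) *ᵥ u := fun g u => rfl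
  have hmem : e.symm X ∈ Cfsg.isometryGroup F Q := by
    intro u v
    show Q ((e.symm X : Matrix ι ι F) *ᵥ u) = Q u
    rw [← h, MulEquiv.apply_symm_apply]
    exact hX u
  refine ⟨⟨e.symm X, hmem⟩, ?_⟩
  rw [Subgroup.orderOf_mk]
  exact MulEquiv.orderOf_eq e.symm X

end Cfsg.Agent.Lib.Helper91.S8LINORD
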