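import Mathlib
import Cfsg.Agent.Lib.Helper12.AOStmt

set_option autoImplicit false

namespace Cfsg.Agent.Lib.Helper91.AOORB1

open Cfsg.Agent.Lib.Helper12.AOStmt

universe u

theorem main : Cfsg.Agent.Lib.Helper12.AOStmt.Orb1.{u} := by
  intro G _ _
  classical
  haveI : Finite (MulAction.orbitRel.Quotient (MulAut G) G) := Quotient.finite _
  haveI : Fintype (MulAction.orbitRel.Quotient (MulAut G) G) := Fintype.ofFinite _
  let ord : MulAction.orbitRel.Quotient (MulAut G) G → ℕ :=
    Quotient.lift (fun x : G => orderOf x) (by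
      intro a b hab
      obtain ⟨φ, hφ⟩ := hab
      show orderOf a = orderOf b
      rw [← hφ]
      exact MulEquiv.orderOf_eq φ b)
  have hsub : insert 1 (Nat.card G).primeFactors ⊆ Finset.univ.image ord := by
    intro n hn
    rw [Finset.mem_insert] at hn
    rw [Finset.mem_image]
    rcases hn with rfl | hn
    · exact ⟨Quotient.mk _ 1, Finset.mem_univ _, orderOf_one⟩
    · have hp := Nat.prime_of_mem_primeFactors hn
      haveI : Fact n.Prime := ⟨hp⟩
      obtain ⟨x, hx⟩ := exists_prime_orderOf_dvd_card' n (Nat.dvd_of_mem_primeFactors hn)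
      exact ⟨Quotient.mk _ x, Finset.mem_univ _, hx⟩
  have h1 : (1 : ℕ) ∉ (Nat.card G).primeFactors :=
    fun h => Nat.not_prime_one (Nat.prime_of_mem_primeFactors h)
  calc (Nat.card G).primeFactors.card + 1
      = (insert 1 (Nat.card G).primeFactors).card := (Finset.card_insert_of_notMem h1).symm
    _ ≤ (Finset.univ.image ord).card := Finset.card_le_card hsub
    _ ≤ Finset.univ.card := Finset.card_image_le
    _ = Nat.card (MulAction.orbitRel.Quotient (MulAut G) G) := by
      rw [Finset.card_univ, Nat.card_eq_fintype_card]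

end Cfsg.Agent.Lib.Helper91.AOORB1
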