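import Mathlib
import Cfsg.Agent.Lib.Helper10.C2MStmt

/-!
# S5990C / PLUSSUMM (second seat, helper91)

The orthogonal sum of two plus-type subspaces of the minus space is of plus type
(port of `Helper21.C2PLUSSUM` to the minus form; the shape of the form is not used).
-/

set_option autoImplicit false

universe u

namespace Cfsg.Agent.Lib.Helper91.C2MPLUSSUMM

open Cfsg.Agent.Lib.Helper45.OMiStmt (M Aniso NDegM StabM)
open Cfsg.Agent.Lib.Helper41.TMTwoStmt (PlusM TSubM)

theorem finrank_sup_inf_bot {F : Type u} [Field F] {V : Type*} [AddCommGroup V] [Module F V]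
    [FiniteDimensional F V] (A B : Submodule F V) (h : A ⊓ B = ⊥) :
    Module.finrank F ↥(A ⊔ B) = Module.finrank F ↥A + Module.finrank F ↥B := by
  have h1 := Submodule.finrank_sup_add_finrank_inf_eq A B
  rw [h, finrank_bot, add_zero] at h1
  exact h1

theorem main : Cfsg.Agent.Lib.Helper10.C2MStmt.PlusSumM.{u} := by
  intro F _ _ a₀ b₀ _ d A B hAB hinf hA hB
  obtain ⟨UA, hUA, hTA, hfA⟩ := hA
  obtain ⟨UB, hUB, hTB, hfB⟩ := hB
  refine ⟨UA ⊔ UB, sup_le_sup hUA hUB, ?_, ?_⟩
  · intro w hw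
    obtain ⟨u, hu, v, hv, rfl⟩ := Submodule.mem_sup.1 hw
    have h1 : Cfsg.quadFormMinus (d - 1) F a₀ b₀ (u + v)
        = Cfsg.quadFormMinus (d - 1) F a₀ b₀ u + Cfsg.quadFormMinus (d - 1) F a₀ b₀ v
          + QuadraticMap.polar (Cfsg.quadFormMinus (d - 1) F a₀ b₀) u v := by
      unfold QuadraticMap.polar
      ring
    rw [h1, hTA u hu, hTB v hv, hAB u (hUA hu) v (hUB hv)]
    simp
  · have hinf' : UA ⊓ UB = ⊥ := by
      apply le_bot_iff.1
      rw [← hinf]
      exact inf_le_inf hUA hUB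
    rw [finrank_sup_inf_bot UA UB hinf', finrank_sup_inf_bot A B hinf]
    omega

end Cfsg.Agent.Lib.Helper91.C2MPLUSSUMM
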