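import Mathlib
import Cfsg.Agent.Lib.Helper32.D8Stmt
import Cfsg.Agent.Lib.Helper32.D8NF
import Cfsg.Agent.Lib.CT.FrobRec

/-!
# S3716 piece IP (helper91, second seat): inner products of `th1`, `th2` with a class function
-/

set_option autoImplicit false

namespace Cfsg.Agent.Lib.Helper91.D8IP

open Cfsg Cfsg.Agent.Lib.CT
open Cfsg.Agent.Lib.Helper32 Cfsg.Agent.Lib.Helper32.D8Stmt Cfsg.Agent.Lib.Helper32.D8NF
open scoped ComplexConjugate

universe u

variable {G : Type u} [Group G] {T N : Subgroup G} {x y a b w : G}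

theorem nf4_eq (hc : Cfg T N x y a b w) (i j k l i' j' k' l' : ℕ) (h1 : i % 3 = i' % 3)
    (h2 : j % 3 = j' % 3) (h3 : k % 2 = k' % 2) (h4 : l % 2 = l' % 2) :
    x ^ i * y ^ j * a ^ k * b ^ l = x ^ i' * y ^ j' * a ^ k' * b ^ l' := by
  have e1 : x ^ i = x ^ i' := by rw [x_pow_mod hc i, x_pow_mod hc i', h1]
  have e2 : y ^ j = y ^ j' := by rw [y_pow_mod hc j, y_pow_mod hc j', h2]
  have e3 : a ^ k = a ^ k' := by rw [a_pow_mod hc k, a_pow_mod hc k', h3]
  have e4 : b ^ l = b ^ l' := by rw [b_pow_mod hc l, b_pow_mod hc l', h4]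
  rw [e1, e2, e3, e4]

theorem cls (X : G → ℂ) (hX : IsClassFunction G X) (k k' v u : G) (hk : k * k' = 1)
    (hu : u = k * v * k') : X u = X v := by
  have e : k' = k⁻¹ := eq_inv_of_mul_eq_one_right hk
  rw [hu, e]
  exact hX v k

/-- conjugation of `x^p y^q b^s` by `x^i y^j a^k b^l`, on a class function -/
theorem cls4 (hc : Cfg T N x y a b w) (X : G → ℂ) (hX : IsClassFunction G X)
    (i j k l i' j' k' l' p q s p' q' s' : ℕ)
    (h1 : (i + (if k % 2 = 0 then i' else 2 * i')) % 3 = 0)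
    (h2 : (j + (if l % 2 = 0 then j' else 2 * j')) % 3 = 0)
    (h3 : (k + k') % 2 = 0) (h4 : (l + l') % 2 = 0)
    (g1 : (i + (if k % 2 = 0 then p else 2 * p) + (if (k + 0) % 2 = 0 then i' else 2 * i')) % 3
      = p' % 3)
    (g2 : (j + (if l % 2 = 0 then q else 2 * q) + (if (l + s) % 2 = 0 then j' else 2 * j')) % 3
      = q' % 3)
    (g3 : (k + 0 + k') % 2 = 0)
    (g4 : (l + s + l') % 2 = s' % 2) :
    X (x ^ p' * y ^ q' * b ^ s') = X (x ^ p * y ^ q * b ^ s) := by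
  have hk : (x ^ i * y ^ j * a ^ k * b ^ l) * (x ^ i' * y ^ j' * a ^ k' * b ^ l') = 1 := by
    rw [prod4 hc, nf4_eq hc _ _ _ _ 0 0 0 0 (by rw [h1]) (by rw [h2]) (by rw [h3]) (by rw [h4])]
    simp
  have hu : x ^ p' * y ^ q' * a ^ 0 * b ^ s' =
      (x ^ i * y ^ j * a ^ k * b ^ l) * (x ^ p * y ^ q * a ^ 0 * b ^ s) *
        (x ^ i' * y ^ j' * a ^ k' * b ^ l') := by
    rw [prod4 hc, prod4 hc]
    exact nf4_eq hc _ _ _ _ _ _ _ _ g1.symm g2.symm (by rw [g3]) g4.symm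
  have e1 : x ^ p' * y ^ q' * b ^ s' = x ^ p' * y ^ q' * a ^ 0 * b ^ s' := by
    rw [pow_zero, mul_one]
  have e2 : x ^ p * y ^ q * b ^ s = x ^ p * y ^ q * a ^ 0 * b ^ s := by
    rw [pow_zero, mul_one]
  apply cls X hX (x ^ i * y ^ j * a ^ k * b ^ l) (x ^ i' * y ^ j' * a ^ k' * b ^ l') _ _ hk
  rw [e1, hu, e2]

/-- the parametrization of `C_G(x)` -/
noncomputable def par [Finite G] (hc : Cfg T N x y a b w) :
    Fin 3 × Fin 3 × Fin 2 ≃ Subgroup.centralizer ({x} : Set G) :=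
  Equiv.ofBijective (fun p =>
    (⟨x ^ (p.1 : ℕ) * y ^ (p.2.1 : ℕ) * b ^ (p.2.2 : ℕ),
      (mem_centralizer_x_iff hc _).2 ⟨_, _, _, rfl⟩⟩ : Subgroup.centralizer ({x} : Set G))) (by
    constructor
    · rintro ⟨i, j, l⟩ ⟨i', j', l'⟩ h
      have h' : x ^ (i : ℕ) * y ^ (j : ℕ) * b ^ (l : ℕ) =
          x ^ (i' : ℕ) * y ^ (j' : ℕ) * b ^ (l' : ℕ) := congrArg Subtype.val h
      have h'' : x ^ (i : ℕ) * y ^ (j : ℕ) * a ^ 0 * b ^ (l : ℕ) =
          x ^ (i' : ℕ) * y ^ (j' : ℕ) * a ^ 0 * b ^ (l' : ℕ) := by simpa using h'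
      obtain ⟨h1, h2, -, h4⟩ := nf4_unique hc _ _ _ _ _ _ _ _ h''
      simp only [Prod.mk.injEq]
      refine ⟨Fin.ext ?_, Fin.ext ?_, Fin.ext ?_⟩
      · have := i.2; have := i'.2; omega
      · have := j.2; have := j'.2; omega
      · have := l.2; have := l'.2; omega
    · rintro ⟨g, hg⟩
      obtain ⟨i, j, l, rfl⟩ := (mem_centralizer_x_iff hc g).1 hg
      refine ⟨(⟨i % 3, Nat.mod_lt _ (by norm_num)⟩, ⟨j % 3, Nat.mod_lt _ (by norm_num)⟩,
        ⟨l % 2, Nat.mod_lt _ (by norm_num)⟩), ?_⟩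
      apply Subtype.ext
      show x ^ (i % 3) * y ^ (j % 3) * b ^ (l % 2) = _
      rw [← x_pow_mod hc, ← y_pow_mod hc, ← b_pow_mod hc])

theorem par_apply [Finite G] (hc : Cfg T N x y a b w) (p : Fin 3 × Fin 3 × Fin 2) :
    par hc p = ⟨x ^ (p.1 : ℕ) * y ^ (p.2.1 : ℕ) * b ^ (p.2.2 : ℕ),
      (mem_centralizer_x_iff hc _).2 ⟨_, _, _, rfl⟩⟩ := rfl

theorem main : D8Stmt.IP.{u} := by
  intro G _ _ T N x y a b w hc f g hfg X hX
  classical
  haveI : Fintype (Subgroup.centralizer ({x} : Set G)) := Fintype.ofFinite _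
  have hx : x ∈ Subgroup.centralizer ({x} : Set G) :=
    (mem_centralizer_x_iff hc x).2 ⟨1, 0, 0, by simp⟩
  obtain ⟨ζ, hζ⟩ : ∃ ζ : ℂ, ζ = ((f ⟨x, hx⟩ : ℂˣ) : ℂ) := ⟨_, rfl⟩
  have hζ3 : ζ ^ 3 = 1 := by
    have h1 : f ⟨x, hx⟩ ^ 3 = 1 := by
      rw [← map_pow]
      have h2 : (⟨x, hx⟩ : Subgroup.centralizer ({x} : Set G)) ^ 3 = 1 :=
        Subtype.ext (by simpa using hc.x3)
      rw [h2, map_one]
    rw [hζ, ← Units.val_pow_eq_pow_val, h1, Units.val_one]
  have hζ1 : ζ ≠ 1 := by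
    intro h
    apply hfg.fx hx
    apply Units.ext
    rw [← hζ, h, Units.val_one]
  have hζq : ζ ^ 2 + ζ + 1 = 0 := by
    have h0 : (ζ - 1) * (ζ ^ 2 + ζ + 1) = 0 := by
      have h1 : (ζ - 1) * (ζ ^ 2 + ζ + 1) = ζ ^ 3 - 1 := by ring
      rw [h1, hζ3, sub_self]
    rcases mul_eq_zero.1 h0 with h | h
    · exact absurd (sub_eq_zero.1 h) hζ1
    · exact h
  -- values of `X` on `C_G(x)`
  have E100 : X (x ^ 1 * y ^ 0 * b ^ 0) = X x := by simp
  have E110 : X (x ^ 1 * y ^ 1 * b ^ 0) = X (x * y) := by simp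
  have E101 : X (x ^ 1 * y ^ 0 * b ^ 1) = X (x * b) := by simp
  have E200 : X (x ^ 2 * y ^ 0 * b ^ 0) = X x := by
    rw [← E100]
    exact cls4 hc X hX 0 0 1 0 0 0 1 0 1 0 0 2 0 0 (by decide) (by decide) (by decide)
      (by decide) (by decide) (by decide) (by decide) (by decide)
  have E120 : X (x ^ 1 * y ^ 2 * b ^ 0) = X (x * y) := by
    rw [← E110]
    exact cls4 hc X hX 0 0 0 1 0 0 0 1 1 1 0 1 2 0 (by decide) (by decide) (by decide)
      (by decide) (by decide) (by decide) (by decide) (by decide)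
  have E210 : X (x ^ 2 * y ^ 1 * b ^ 0) = X (x * y) := by
    rw [← E110]
    exact cls4 hc X hX 0 0 1 0 0 0 1 0 1 1 0 2 1 0 (by decide) (by decide) (by decide)
      (by decide) (by decide) (by decide) (by decide) (by decide)
  have E220 : X (x ^ 2 * y ^ 2 * b ^ 0) = X (x * y) := by
    rw [← E110]
    exact cls4 hc X hX 0 0 1 1 0 0 1 1 1 1 0 2 2 0 (by decide) (by decide) (by decide)
      (by decide) (by decide) (by decide) (by decide) (by decide)
  have E111 : X (x ^ 1 * y ^ 1 * b ^ 1) = X (x * b) := by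
    rw [← E101]
    exact cls4 hc X hX 0 2 0 0 0 1 0 0 1 0 1 1 1 1 (by decide) (by decide) (by decide)
      (by decide) (by decide) (by decide) (by decide) (by decide)
  have E121 : X (x ^ 1 * y ^ 2 * b ^ 1) = X (x * b) := by
    rw [← E101]
    exact cls4 hc X hX 0 1 0 0 0 2 0 0 1 0 1 1 2 1 (by decide) (by decide) (by decide)
      (by decide) (by decide) (by decide) (by decide) (by decide)
  have E201 : X (x ^ 2 * y ^ 0 * b ^ 1) = X (x * b) := by
    rw [← E101]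
    exact cls4 hc X hX 0 0 1 0 0 0 1 0 1 0 1 2 0 1 (by decide) (by decide) (by decide)
      (by decide) (by decide) (by decide) (by decide) (by decide)
  have E211 : X (x ^ 2 * y ^ 1 * b ^ 1) = X (x * b) := by
    rw [← E101]
    exact cls4 hc X hX 0 2 1 0 0 1 1 0 1 0 1 2 1 1 (by decide) (by decide) (by decide)
      (by decide) (by decide) (by decide) (by decide) (by decide)
  have E221 : X (x ^ 2 * y ^ 2 * b ^ 1) = X (x * b) := by
    rw [← E101]
    exact cls4 hc X hX 0 1 1 0 0 2 1 0 1 0 1 2 2 1 (by decide) (by decide) (by decide)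
      (by decide) (by decide) (by decide) (by decide) (by decide)
  -- Frobenius reciprocity
  have key1 : classInner (th1 x f) X =
      classInner (ph1 x f) (fun h : Subgroup.centralizer ({x} : Set G) => X h) :=
    FrobRec.frobenius_reciprocity _ _ _ hX
  have key2 : classInner (th2 x f g) X =
      classInner (ph2 x f g) (fun h : Subgroup.centralizer ({x} : Set G) => X h) :=
    FrobRec.frobenius_reciprocity _ _ _ hX
  have hsum : ∀ Φ : Subgroup.centralizer ({x} : Set G) → ℂ,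
      ∑ h, Φ h = ∑ p : Fin 3 × Fin 3 × Fin 2, Φ (par hc p) :=
    fun Φ => (Equiv.sum_comp (par hc) Φ).symm
  have hph1 : ∀ p : Fin 3 × Fin 3 × Fin 2,
      ph1 x f (par hc p) * conj (X (par hc p)) =
        (1 - ζ ^ (p.1 : ℕ)) * conj (X (x ^ (p.1 : ℕ) * y ^ (p.2.1 : ℕ) * b ^ (p.2.2 : ℕ))) := by
    intro p
    rw [par_apply hc p]
    unfold ph1
    rw [(fg_apply hc f g hfg _ _ _ _ hx).1, Units.val_pow_eq_pow_val, ← hζ]
  have hph2 : ∀ p : Fin 3 × Fin 3 × Fin 2,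
      ph2 x f g (par hc p) * conj (X (par hc p)) =
        ((-1) ^ (p.2.2 : ℕ) - ζ ^ (p.1 : ℕ) * (-1) ^ (p.2.2 : ℕ)) *
          conj (X (x ^ (p.1 : ℕ) * y ^ (p.2.1 : ℕ) * b ^ (p.2.2 : ℕ))) := by
    intro p
    rw [par_apply hc p]
    unfold ph2
    rw [(fg_apply hc f g hfg _ _ _ _ hx).1, (fg_apply hc f g hfg _ _ _ _ hx).2,
      Units.val_pow_eq_pow_val, ← hζ]
  constructor
  · rw [key1]
    unfold classInner
    rw [hsum, Finset.sum_congr rfl (fun p _ => hph1 p), card_Cx hc]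
    simp only [Fintype.sum_prod_type, Fin.sum_univ_three, Fin.sum_univ_two, Fin.val_zero,
      Fin.val_one, Fin.val_two]
    rw [E100, E110, E101, E200, E120, E210, E220, E111, E121, E201, E211, E221]
    push_cast
    linear_combination
      (-(conj (X x) + 2 * conj (X (x * y)) + 3 * conj (X (x * b))) / 18) * hζq
  · rw [key2]
    unfold classInner
    rw [hsum, Finset.sum_congr rfl (fun p _ => hph2 p), card_Cx hc]
    simp only [Fintype.sum_prod_type, Fin.sum_univ_three, Fin.sum_univ_two, Fin.val_zero,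
      Fin.val_one, Fin.val_two]
    rw [E100, E110, E101, E200, E120, E210, E220, E111, E121, E201, E211, E221]
    push_cast
    linear_combination
      (-(conj (X x) + 2 * conj (X (x * y)) - 3 * conj (X (x * b))) / 18) * hζq

end Cfsg.Agent.Lib.Helper91.D8IP
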