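import Mathlib
import Cfsg.Agent.Lib.Helper75.DCStmt

set_option autoImplicit false

namespace Cfsg.Agent.Lib.Helper91.DCFIX

universe u

theorem parity {α : Type*} [DecidableEq α] (S : Finset α) (φ : α → α)
    (hmem : ∀ x ∈ S, φ x ∈ S) (hinv : ∀ x ∈ S, φ (φ x) = x) (hS : Even S.card) :
    Even ((S.filter (fun x => φ x = x)).card) := by
  have h1 := Finset.card_filter_add_card_filter_not (s := S) (fun x => φ x = x)
  have h2 : Even ((S.filter (fun x => ¬ φ x = x)).card) := by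
    have h3 : ∑ x ∈ S.filter (fun x => ¬ φ x = x), (1 : ZMod 2) = 0 := by
      refine Finset.sum_involution (fun a _ => φ a) ?_ ?_ ?_ ?_
      · intro a ha; rfl
      · intro a ha _; exact (Finset.mem_filter.mp ha).2
      · intro a ha
        rw [Finset.mem_filter] at ha ⊢
        refine ⟨hmem a ha.1, ?_⟩
        rw [hinv a ha.1]
        exact fun h => ha.2 h.symm
      · intro a ha
        exact hinv a (Finset.mem_filter.mp ha).1
    rw [Finset.sum_const, nsmul_eq_mul, mul_one] at h3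
    rw [even_iff_two_dvd]
    exact (ZMod.natCast_eq_zero_iff _ 2).mp h3
  rw [← h1] at hS
  exact (Nat.even_add.mp hS).mpr h2

theorem main : Cfsg.Agent.Lib.Helper75.DCStmt.FIX.{u} := by
  intro Γ _ _ G v w hG hev hv hw hvw
  classical
  haveI := Fintype.ofFinite Γ
  have hvinv : v⁻¹ = v := inv_eq_of_mul_eq_one_left hv
  have hwinv : w⁻¹ = w := inv_eq_of_mul_eq_one_left hw
  set S₀ : Finset Γ := Finset.univ.filter (fun z => z ∈ G) with hS₀
  have hc0 : S₀.card = Nat.card G := (Nat.subtype_card S₀ (fun x => by simp [hS₀])).symm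
  have e0 : Even S₀.card := hc0 ▸ hev
  have m0 : ∀ x, x ∈ S₀ ↔ x ∈ G := fun x => by simp [hS₀]
  set S₁ := S₀.filter (fun z => z⁻¹ = z) with hS₁
  have m1 : ∀ x, x ∈ S₁ ↔ x ∈ G ∧ x⁻¹ = x := fun x => by rw [hS₁, Finset.mem_filter, m0]
  have e1 : Even S₁.card := parity S₀ (fun z => z⁻¹)
    (fun x hx => by rw [m0] at hx ⊢; exact G.inv_mem hx) (fun x _ => inv_inv x) e0
  set S₂ := S₁.filter (fun z => v * z * v⁻¹ = z) with hS₂
  have m2 : ∀ x, x ∈ S₂ ↔ (x ∈ G ∧ x⁻¹ = x) ∧ v * x * v⁻¹ = x :=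
    fun x => by rw [hS₂, Finset.mem_filter, m1]
  have e2 : Even S₂.card := parity S₁ (fun z => v * z * v⁻¹)
    (fun x hx => by
      rw [m1] at hx ⊢
      refine ⟨hG.conj_mem x hx.1 v, ?_⟩
      calc (v * x * v⁻¹)⁻¹ = v * x⁻¹ * v⁻¹ := by group
        _ = v * x * v⁻¹ := by rw [hx.2])
    (fun x _ => by
      show v * (v * x * v⁻¹) * v⁻¹ = x
      calc v * (v * x * v⁻¹) * v⁻¹ = (v * v) * x * (v * v)⁻¹ := by group
        _ = x := by rw [hv]; group) e1
  set S₃ := S₂.filter (fun z => w * z * w⁻¹ = z) with hS₃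
  have m3 : ∀ x, x ∈ S₃ ↔ ((x ∈ G ∧ x⁻¹ = x) ∧ v * x * v⁻¹ = x) ∧ w * x * w⁻¹ = x :=
    fun x => by rw [hS₃, Finset.mem_filter, m2]
  have e3 : Even S₃.card := parity S₂ (fun z => w * z * w⁻¹)
    (fun x hx => by
      rw [m2] at hx ⊢
      refine ⟨⟨hG.conj_mem x hx.1.1 w, ?_⟩, ?_⟩
      · calc (w * x * w⁻¹)⁻¹ = w * x⁻¹ * w⁻¹ := by group
          _ = w * x * w⁻¹ := by rw [hx.1.2]
      · calc v * (w * x * w⁻¹) * v⁻¹ = (v * w) * x * (v * w)⁻¹ := by group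
          _ = (w * v) * x * (w * v)⁻¹ := by rw [hvw]
          _ = w * (v * x * v⁻¹) * w⁻¹ := by group
          _ = w * x * w⁻¹ := by rw [hx.2])
    (fun x _ => by
      show w * (w * x * w⁻¹) * w⁻¹ = x
      calc w * (w * x * w⁻¹) * w⁻¹ = (w * w) * x * (w * w)⁻¹ := by group
        _ = x := by rw [hw]; group) e2
  have h1 : (1 : Γ) ∈ S₃ := by
    rw [m3]
    refine ⟨⟨⟨G.one_mem, inv_one⟩, ?_⟩, ?_⟩
    · group
    · group
  have hgt : 1 < S₃.card := by
    have hpos : 0 < S₃.card := Finset.card_pos.mpr ⟨1, h1⟩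
    obtain ⟨k, hk⟩ := e3
    omega
  obtain ⟨z, hz, hz1⟩ := Finset.exists_mem_ne hgt 1
  rw [m3] at hz
  obtain ⟨⟨⟨hzG, hzi⟩, hzv⟩, hzw⟩ := hz
  refine ⟨z, hzG, hz1, ?_, ?_, ?_⟩
  · calc z * z = z⁻¹ * z := by rw [hzi]
      _ = 1 := inv_mul_cancel z
  · calc z * v = (v * z * v⁻¹) * v := by rw [hzv]
      _ = v * z := by group
  · calc z * w = (w * z * w⁻¹) * w := by rw [hzw]
      _ = w * z := by group

end Cfsg.Agent.Lib.Helper91.DCFIX
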