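import Mathlib
import Cfsg.Agent.Lib.Helper75.DCStmt

set_option autoImplicit false

namespace Cfsg.Agent.Lib.Helper91.DCPICK

universe u

theorem main : Cfsg.Agent.Lib.Helper75.DCStmt.PICK.{u} := by
  intro G _ E h3
  haveI : Finite E := Nat.finite_of_card_ne_zero (by omega)
  haveI := Fintype.ofFinite E
  rw [Nat.card_eq_fintype_card] at h3
  obtain ⟨a, b, c, hab, hac, hbc⟩ := Fintype.two_lt_card_iff.mp h3
  have cv : ∀ {x y : E}, x ≠ y → (x : G) ≠ (y : G) := fun h h' => h (Subtype.ext h')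
  have c1 : ∀ {x : E}, x ≠ 1 → (x : G) ≠ 1 := fun h h' => h (Subtype.ext h')
  by_cases ha : a = 1
  · subst ha
    exact ⟨b, b.2, c, c.2, c1 (Ne.symm hab), c1 (Ne.symm hac), cv hbc⟩
  · by_cases hb : b = 1
    · subst hb
      exact ⟨a, a.2, c, c.2, c1 ha, c1 (Ne.symm hbc), cv hac⟩
    · exact ⟨a, a.2, b, b.2, c1 ha, c1 hb, cv hab⟩

end Cfsg.Agent.Lib.Helper91.DCPICK
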