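import Mathlib
import Cfsg.Agent.Lib.Helper80.FTStmt

set_option autoImplicit false

/-!
# S3999 piece ORDEQUIV (helper91): equal fibre cardinalities of `orderOf` give a bijection
preserving `orderOf` (glue the fibre bijections with `Equiv.sigmaFiberEquiv`; same construction
as the S3998 piece CNTCONGR).
-/

namespace Cfsg.Agent.Lib.Helper91.FTORDEQUIV

open Cfsg.Agent.Lib.Helper80.FTStmt

universe u v

theorem main : OrdEquiv.{u, v} := by
  intro F G _ _ _ _ hcard
  have hne : ∀ m : ℕ, Nonempty ({g : F // orderOf g = m} ≃ {h : G // orderOf h = m}) :=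
    fun m => Finite.card_eq.mp (hcard m)
  have em : ∀ m : ℕ, {g : F // orderOf g = m} ≃ {h : G // orderOf h = m} :=
    fun m => Classical.choice (hne m)
  let e : F ≃ G :=
    (Equiv.sigmaFiberEquiv (orderOf : F → ℕ)).symm.trans
      ((Equiv.sigmaCongrRight em).trans (Equiv.sigmaFiberEquiv (orderOf : G → ℕ)))
  have he : ∀ g : F, e g = (em (orderOf g) ⟨g, rfl⟩).1 := fun g => rfl
  refine ⟨e, ?_⟩
  intro g
  rw [he]
  exact (em (orderOf g) ⟨g, rfl⟩).2

end Cfsg.Agent.Lib.Helper91.FTORDEQUIV
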