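import Mathlib
import Cfsg.Agent.Lib.Helper59.FxStmt

set_option autoImplicit false

namespace Cfsg.Agent.Lib.Helper91.FxIDX

open Cfsg.Agent.Lib.Helper59.FxStmt

universe u v

theorem card_inf_mul_relIndex {G : Type*} [Group G] (H K : Subgroup G) :
    Nat.card ↥(H ⊓ K) * H.relIndex K = Nat.card K := by
  have h1 : Nat.card (H.subgroupOf K) = Nat.card ↥(H ⊓ K) := by
    rw [← Subgroup.subgroupOf_map_subtype,
      Subgroup.card_map_of_injective (Subgroup.subtype_injective K)]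
  rw [← h1]
  exact Subgroup.card_mul_index (H.subgroupOf K)

theorem main : Cfsg.Agent.Lib.Helper59.FxStmt.Idx.{u, v} := by
  intro G _ _ Ω _ S α β s hc h4
  haveI : Fact (Nat.Prime 2) := ⟨Nat.prime_two⟩
  set T : Subgroup G := S ⊓ MulAction.stabilizer G α with hT
  have hTS : T ≤ S := inf_le_left
  have hTα : ∀ t ∈ T, t • α = α := fun t ht => MulAction.mem_stabilizer_iff.mp ht.2
  have hTβ : ∀ t ∈ T, t • β = β := fun t ht => by
    have : t ∈ S ⊓ MulAction.stabilizer G β := by rw [hc.Tβ]; exact ht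
    exact MulAction.mem_stabilizer_iff.mp this.2
  have hmemT : ∀ y ∈ S, y • α = α → y ∈ T :=
    fun y hy h => ⟨hy, MulAction.mem_stabilizer_iff.mpr h⟩
  have F1 : ∀ y ∈ S, y • α = α → y • β = β := fun y hy h => hTβ y (hmemT y hy h)
  have hsinv : s⁻¹ • β = α := by rw [inv_smul_eq_iff]; exact hc.sα.symm
  have F2 : ∀ y ∈ S, y • α = β → y • β = α := by
    intro y hy h
    have h1 : (s⁻¹ * y) • α = α := by rw [mul_smul, h, hsinv]
    have h2 := F1 (s⁻¹ * y) (S.mul_mem (S.inv_mem hc.hs) hy) h1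
    rw [mul_smul, inv_smul_eq_iff, hc.sβ] at h2
    exact h2
  let N₁ : Subgroup G :=
    { carrier := {y | y ∈ S ∧ (y • α = α ∨ y • α = β)}
      mul_mem' := by
        rintro a b ⟨haS, ha⟩ ⟨hbS, hb⟩
        refine ⟨S.mul_mem haS hbS, ?_⟩
        rw [mul_smul]
        rcases hb with hb | hb
        · rw [hb]; exact ha
        · rw [hb]
          rcases ha with ha | ha
          · exact Or.inr (F1 a haS ha)
          · exact Or.inl (F2 a haS ha)
      one_mem' := ⟨S.one_mem, Or.inl (one_smul _ _)⟩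
      inv_mem' := by
        rintro a ⟨haS, ha⟩
        refine ⟨S.inv_mem haS, ?_⟩
        rcases ha with ha | ha
        · left; rw [inv_smul_eq_iff]; exact ha.symm
        · right; rw [inv_smul_eq_iff]; exact (F2 a haS ha).symm }
  have hTN : T ≤ N₁ := fun t ht => ⟨hTS ht, Or.inl (hTα t ht)⟩
  have hNS : N₁ ≤ S := fun y hy => hy.1
  have hsN : s ∈ N₁ := ⟨hc.hs, Or.inr hc.sα⟩
  have hidx : T.relIndex N₁ = 2 := by
    show (T.subgroupOf N₁).index = 2
    rw [Subgroup.index_eq_two_iff]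
    refine ⟨⟨s, hsN⟩, ?_⟩
    intro b
    rcases b.2.2 with hb | hb
    · right
      refine ⟨Subgroup.mem_subgroupOf.mpr (hmemT b b.2.1 hb), ?_⟩
      intro hbs
      have hbs' : ((b : G) * s) ∈ T := Subgroup.mem_subgroupOf.mp hbs
      have h1 := hTα _ hbs'
      rw [mul_smul, hc.sα, F1 b b.2.1 hb] at h1
      exact hc.ne h1.symm
    · left
      refine ⟨Subgroup.mem_subgroupOf.mpr (hmemT _ (S.mul_mem b.2.1 hc.hs) ?_), ?_⟩
      · show ((b : G) * s) • α = α
        rw [mul_smul, hc.sα, F2 b b.2.1 hb]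
      · intro hbT
        have h1 := hTα _ (Subgroup.mem_subgroupOf.mp hbT)
        rw [hb] at h1
        exact hc.ne h1.symm
  by_contra hne
  have hN₁S : N₁ ≠ S := fun h => hne (by rw [← h]; exact hidx)
  haveI : Group.IsNilpotent ↥S := hc.p2.isNilpotent
  have hlt : N₁.subgroupOf S < ⊤ := by
    rw [lt_top_iff_ne_top]
    intro h
    rw [Subgroup.subgroupOf_eq_top] at h
    exact hN₁S (le_antisymm hNS h)
  obtain ⟨y', hy'N, hy'⟩ := SetLike.exists_of_lt (Group.normalizerCondition_of_isNilpotent _ hlt)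
  have hyS : (y' : G) ∈ S := y'.2
  have hyN : (y' : G) ∉ N₁ := fun h => hy' (Subgroup.mem_subgroupOf.mpr h)
  have hconj : ∀ n ∈ N₁, (y' : G) * n * (y' : G)⁻¹ ∈ N₁ := by
    intro n hn
    have h1 : (⟨n, hNS hn⟩ : ↥S) ∈ N₁.subgroupOf S := Subgroup.mem_subgroupOf.mpr hn
    have h2 := (Subgroup.mem_normalizer_iff.mp hy'N _).mp h1
    exact Subgroup.mem_subgroupOf.mp h2
  set T' : Subgroup G := T.map (MulAut.conj (y' : G)).toMonoidHom with hT'
  have hT'N : T' ≤ N₁ := by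
    rintro _ ⟨t, ht, rfl⟩
    exact hconj t (hTN ht)
  have hcT' : Nat.card T' = Nat.card T :=
    Subgroup.card_map_of_injective (MulAut.conj (y' : G)).injective
  have e1 := card_inf_mul_relIndex T N₁
  have e2 := card_inf_mul_relIndex T' N₁
  have e3 := card_inf_mul_relIndex (T ⊓ T') N₁
  rw [inf_eq_left.mpr hTN, hidx] at e1
  rw [inf_eq_left.mpr hT'N, hcT'] at e2
  rw [inf_eq_left.mpr (inf_le_left.trans hTN)] at e3
  have hidx' : T'.relIndex N₁ = 2 := by
    have hpos : 0 < Nat.card T := Nat.card_pos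
    have : Nat.card T * T'.relIndex N₁ = Nat.card T * 2 := by rw [e2, e1]
    exact Nat.eq_of_mul_eq_mul_left hpos this
  have hle : (T ⊓ T').relIndex N₁ ≤ T.relIndex N₁ * T'.relIndex N₁ := Subgroup.relIndex_inf_le
  rw [hidx, hidx'] at hle
  have hcard2 : 2 ≤ Nat.card ↥(T ⊓ T') := by
    by_contra hlt2
    have h1 : Nat.card ↥(T ⊓ T') ≤ 1 := by omega
    have h5 : Nat.card ↥(T ⊓ T') * (T ⊓ T').relIndex N₁ ≤ 1 * 4 := Nat.mul_le_mul h1 hle
    rw [e3] at h5
    omega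
  have hnb : T ⊓ T' ≠ ⊥ := by
    intro h
    rw [h, Subgroup.card_bot] at hcard2
    omega
  obtain ⟨⟨t, ht⟩, ht1⟩ := (Subgroup.ne_bot_iff_exists_ne_one).mp hnb
  have ht1' : t ≠ 1 := fun h => ht1 (Subtype.ext h)
  obtain ⟨htT, t₀, ht₀, hteq⟩ := ht
  have hteq' : (y' : G) * t₀ * (y' : G)⁻¹ = t := hteq
  have hfix : t • ((y' : G) • α) = (y' : G) • α := by
    rw [← hteq', ← mul_smul, inv_mul_cancel_right, mul_smul, hTα t₀ ht₀]
  rcases hc.f3 t ht1' α β ((y' : G) • α) (hTα _ htT) (hTβ _ htT) hfix with h | h | h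
  · exact hc.ne h
  · exact hyN ⟨hyS, Or.inl h.symm⟩
  · exact hyN ⟨hyS, Or.inr h.symm⟩

end Cfsg.Agent.Lib.Helper91.FxIDX
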