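import Mathlib
import Cfsg.Agent.Lib.Helper40.HPStmt
import Cfsg.Agent.Lib.Helper91.HypHYPFIB
import Cfsg.Agent.Lib.Helper44.OTyp1
import Cfsg.Agent.Lib.Helper44.WittND2

/-!
# S5974 / HYPFIBJ (helper91, call by helper40)

The number of hyperbolic `2h`-spaces of the plus form divides the number of ordered hyperbolic
systems of `h` pairs, ALL `q` (port of `Helper91.HypHYPFIB`; the characteristic-free parts of
that file are reused, the two places that divided by `2` are replaced).
-/

set_option autoImplicit false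
set_option maxHeartbeats 400000

universe u

open scoped Matrix

namespace Cfsg.Agent.Lib.Helper91.HPHYPFIBJ

open Cfsg.Agent.Lib.Helper40.HPStmt
open Cfsg.Agent.Lib.Helper94.OPStmt (P)
open Cfsg.Agent.Lib.Helper91.HypHYPFIB (Sys T T_apply T_e T_f T_self T_T B_pres map_span linInd
  finrank_span finrank_span_e nondeg transport)
open Cfsg.Agent.Lib.Helper44.NegPairs (plusQ)

section genQ

variable {F : Type*} [Field F] {V : Type*} [AddCommGroup V] [Module F V]
variable (Q : QuadraticForm F V) {h : ℕ} {e f e' f' : Fin h → V}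

/-- value of `Q` on a combination of a hyperbolic system -/
theorem Q_comb (S : Sys (QuadraticMap.polarBilin Q) e f) (he : ∀ a, Q (e a) = 0)
    (hf : ∀ a, Q (f a) = 0) (x y : Fin h → F) (s : Finset (Fin h)) :
    Q (∑ b ∈ s, (x b • e b + y b • f b)) = ∑ b ∈ s, x b * y b := by
  classical
  have hadd : ∀ u v : V, Q (u + v) = Q u + Q v + QuadraticMap.polarBilin Q u v := by
    intro u v
    show Q (u + v) = Q u + Q v + QuadraticMap.polar Q u v
    unfold QuadraticMap.polar
    ring
  induction s using Finset.induction_on with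
  | empty => simp
  | insert a s ha ih =>
    rw [Finset.sum_insert ha, Finset.sum_insert ha, hadd, ih]
    have h1 : Q (x a • e a + y a • f a) = x a * y a := by
      rw [hadd, QuadraticMap.map_smul, QuadraticMap.map_smul, he, hf, smul_zero, smul_zero,
        zero_add, zero_add]
      simp only [map_smul, LinearMap.smul_apply, smul_eq_mul, S.ef, ↓reduceIte]
      ring
    have h2 : QuadraticMap.polarBilin Q (x a • e a + y a • f a)
        (∑ b ∈ s, (x b • e b + y b • f b)) = 0 := by
      rw [map_sum]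
      apply Finset.sum_eq_zero
      intro b hb
      have hab : a ≠ b := fun h => ha (h ▸ hb)
      simp only [map_add, LinearMap.add_apply, map_smul, LinearMap.smul_apply, smul_eq_mul,
        S.ee, S.ff, S.ef, S.fe, if_neg hab, mul_zero, add_zero]
    rw [h1, h2, add_zero]

theorem Q_T (S' : Sys (QuadraticMap.polarBilin Q) e' f') (he' : ∀ a, Q (e' a) = 0)
    (hf' : ∀ a, Q (f' a) = 0) (e f : Fin h → V) (u : V) :
    Q (T (QuadraticMap.polarBilin Q) e f e' f' u) =
      ∑ b, QuadraticMap.polarBilin Q u (f b) * QuadraticMap.polarBilin Q u (e b) := by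
  rw [T_apply]
  exact Q_comb Q S' he' hf' (fun b => QuadraticMap.polarBilin Q u (f b))
    (fun b => QuadraticMap.polarBilin Q u (e b)) Finset.univ

theorem Q_pres (S : Sys (QuadraticMap.polarBilin Q) e f) (he : ∀ a, Q (e a) = 0)
    (hf : ∀ a, Q (f a) = 0) (S' : Sys (QuadraticMap.polarBilin Q) e' f')
    (he' : ∀ a, Q (e' a) = 0) (hf' : ∀ a, Q (f' a) = 0) {u : V}
    (hu : u ∈ Submodule.span F (Set.range (Sum.elim e f))) :
    Q (T (QuadraticMap.polarBilin Q) e f e' f' u) = Q u := by
  rw [Q_T Q S' he' hf']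
  have h1 := Q_T Q S he hf e f u
  rw [T_self S hu] at h1
  exact h1.symm

theorem Q_span_e (S : Sys (QuadraticMap.polarBilin Q) e f) (he : ∀ a, Q (e a) = 0)
    (hf : ∀ a, Q (f a) = 0) {w : V} (hw : w ∈ Submodule.span F (Set.range e)) : Q w = 0 := by
  have h1 : ∀ b, QuadraticMap.polarBilin Q w (e b) = 0 := by
    intro b
    have : Set.EqOn ((QuadraticMap.polarBilin Q).flip (e b)) (0 : V →ₗ[F] F) (Set.range e) := by
      rintro _ ⟨a, rfl⟩
      simpa using S.ee a b
    simpa using LinearMap.eqOn_span this hw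
  have hw' : w ∈ Submodule.span F (Set.range (Sum.elim e f)) := by
    refine Submodule.span_mono ?_ hw
    rintro _ ⟨a, rfl⟩
    exact ⟨Sum.inl a, rfl⟩
  have h2 := Q_T Q S he hf e f w
  rw [T_self S hw'] at h2
  rw [h2]
  apply Finset.sum_eq_zero
  intro b _
  rw [h1 b, mul_zero]

end genQ

section conc

variable (F : Type u) [Field F] (d : ℕ)

/-- the polar form of the plus form as a bilinear form -/
def BBJ : LinearMap.BilinForm F (P d → F) := QuadraticMap.polarBilin (plusQ d F)

theorem BBJ_apply (u v : P d → F) :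
    BBJ F d u v = QuadraticMap.polar (Cfsg.quadFormPlus d F) u v := rfl

theorem BBJ_symm (u v : P d → F) : BBJ F d u v = BBJ F d v u := by
  rw [BBJ_apply, BBJ_apply, QuadraticMap.polar_comm]

variable {F d} {h : ℕ}

theorem sysJ (t : HSysJ d F h) : Sys (BBJ F d) t.1.1 t.1.2 :=
  ⟨fun a b => t.2.2.2.1 a b, fun a b => t.2.2.2.2.1 a b, fun a b => t.2.2.2.2.2 a b,
    fun a b => by
      rw [BBJ_symm, BBJ_apply, t.2.2.2.2.2 b a]
      simp [eq_comm]⟩

/-- build an element of `HSysJ` -/
def mkJ (e f : Fin h → P d → F) (S : Sys (BBJ F d) e f)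
    (he : ∀ a, Cfsg.quadFormPlus d F (e a) = 0) (hf : ∀ a, Cfsg.quadFormPlus d F (f a) = 0) :
    HSysJ d F h :=
  ⟨(e, f), ⟨he, hf, fun a b => S.ee a b, fun a b => S.ff a b, fun a b => S.ef a b⟩⟩

/-- the span of a system -/
def spJ (t : HSysJ d F h) : Submodule F (P d → F) :=
  Submodule.span F (Set.range (Sum.elim t.1.1 t.1.2))

theorem hyp_spJ (t : HSysJ d F h) : HypJ d F (2 * h) (spJ t) := by
  have S := sysJ t
  refine ⟨finrank_span S, ?_, ?_⟩
  · intro w hw hw0
    obtain ⟨x, hx, hne⟩ := nondeg S hw hw0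
    exact ⟨x, hx, hne⟩
  · refine ⟨Submodule.span F (Set.range t.1.1), ?_, ?_, ?_⟩
    · apply Submodule.span_mono
      rintro _ ⟨a, rfl⟩
      exact ⟨Sum.inl a, rfl⟩
    · rw [finrank_span_e S]
    · intro w hw
      exact Q_span_e (plusQ d F) S t.2.1 t.2.2.1 hw

theorem exists_spJ [Fintype F] {W : Submodule F (P d → F)} (hW : HypJ d F (2 * h) W) :
    ∃ t : HSysJ d F h, spJ t = W := by
  obtain ⟨hr, hnd, U, hUW, hUr, hUs⟩ := hW
  rcases h with _ | k
  · -- `W = ⊥`
    have hW0 : W = ⊥ := Submodule.finrank_eq_zero.mp (by rw [hr])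
    have S : Sys (BBJ F d) (fun a : Fin 0 => a.elim0) (fun a : Fin 0 => a.elim0) :=
      ⟨fun a => a.elim0, fun a => a.elim0, fun a => a.elim0, fun a => a.elim0⟩
    refine ⟨mkJ _ _ S (fun a => a.elim0) (fun a => a.elim0), ?_⟩
    rw [hW0]
    unfold spJ
    rw [Submodule.span_eq_bot]
    rintro _ ⟨c, rfl⟩
    rcases c with a | a
    · exact a.elim0
    · exact a.elim0
  · have hWnd : Cfsg.Agent.Lib.Helper44.WittND.NDsub (plusQ d F) W := by
      intro y hy hyz
      by_contra hy0
      obtain ⟨z, hz, hz0⟩ := hnd y hy hy0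
      exact hz0 (hyz z hz)
    have hS := Cfsg.Agent.Lib.Helper44.WittND2.sep_res_of_ndsub hWnd
    have hU' : ∀ u ∈ U.comap W.subtype,
        Cfsg.Agent.Lib.Helper44.QSpace.res (plusQ d F) W u = 0 := fun u hu => hUs _ hu
    have hfr : Module.finrank F ↥(U.comap W.subtype) = Module.finrank F ↥U := by
      rw [← Submodule.finrank_map_subtype_eq W (U.comap W.subtype), Submodule.map_comap_subtype,
        inf_eq_right.mpr hUW]
    have hd : k + 1 ≤ Module.finrank F ↥(U.comap W.subtype) := by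
      rw [hfr]
      omega
    obtain ⟨e, f, hH⟩ := Cfsg.Agent.Lib.Helper44.OTyp1.hyp_of_ts' hS hr hU' hd
    obtain ⟨hHe, hHf, hHef, hHee, hHff⟩ := hH
    have S : Sys (BBJ F d) (fun a => ((e a : W) : P d → F)) (fun a => ((f a : W) : P d → F)) :=
      ⟨fun a b => hHee a b, fun a b => hHff a b, fun a b => hHef a b, fun a b => by
        rw [BBJ_symm]
        have h1 := hHef b a
        have h2 : BBJ F d ((e b : W) : P d → F) ((f a : W) : P d → F) = if b = a then 1 else 0 :=
          h1
        rw [h2]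
        simp [eq_comm]⟩
    refine ⟨mkJ _ _ S (fun a => hHe a) (fun a => hHf a), ?_⟩
    apply Submodule.eq_of_le_of_finrank_eq
    · unfold spJ
      rw [Submodule.span_le]
      rintro _ ⟨c, rfl⟩
      rcases c with a | a
      · exact (e a).2
      · exact (f a).2
    · have h3 : Module.finrank F ↥(spJ (mkJ _ _ S (fun a => hHe a) (fun a => hHf a))) = 2 * (k + 1) :=
        finrank_span S
      rw [h3, hr]

theorem fib_leJ [Finite F] (t t' : HSysJ d F h) :
    Nat.card {s : HSysJ d F h // spJ s = spJ t} ≤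
      Nat.card {s : HSysJ d F h // spJ s = spJ t'} := by
  haveI : Finite (HSysJ d F h) := by unfold HSysJ; infer_instance
  have S := sysJ t
  have S' := sysJ t'
  have hmem1 : ∀ (s : {s : HSysJ d F h // spJ s = spJ t}) (a : Fin h),
      s.1.1.1 a ∈ Submodule.span F (Set.range (Sum.elim t.1.1 t.1.2)) := by
    intro s a
    have := s.2
    unfold spJ at this
    rw [← this]
    exact Submodule.subset_span ⟨Sum.inl a, rfl⟩
  have hmem2 : ∀ (s : {s : HSysJ d F h // spJ s = spJ t}) (a : Fin h),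
      s.1.1.2 a ∈ Submodule.span F (Set.range (Sum.elim t.1.1 t.1.2)) := by
    intro s a
    have := s.2
    unfold spJ at this
    rw [← this]
    exact Submodule.subset_span ⟨Sum.inr a, rfl⟩
  let φ : {s : HSysJ d F h // spJ s = spJ t} → {s : HSysJ d F h // spJ s = spJ t'} := fun s =>
    ⟨mkJ (T (BBJ F d) t.1.1 t.1.2 t'.1.1 t'.1.2 ∘ s.1.1.1)
        (T (BBJ F d) t.1.1 t.1.2 t'.1.1 t'.1.2 ∘ s.1.1.2) (transport S S' (sysJ s.1) s.2).1
        (fun a => by
          have h1 := Q_pres (plusQ d F) S t.2.1 t.2.2.1 S' t'.2.1 t'.2.2.1 (hmem1 s a)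
          exact h1.trans (s.1.2.1 a))
        (fun a => by
          have h1 := Q_pres (plusQ d F) S t.2.1 t.2.2.1 S' t'.2.1 t'.2.2.1 (hmem2 s a)
          exact h1.trans (s.1.2.2.1 a)),
      (transport S S' (sysJ s.1) s.2).2⟩
  apply Nat.card_le_card_of_injective φ
  intro s1 s2 h12
  have h12' : (T (BBJ F d) t.1.1 t.1.2 t'.1.1 t'.1.2 ∘ s1.1.1.1,
      T (BBJ F d) t.1.1 t.1.2 t'.1.1 t'.1.2 ∘ s1.1.1.2) =
      (T (BBJ F d) t.1.1 t.1.2 t'.1.1 t'.1.2 ∘ s2.1.1.1,
      T (BBJ F d) t.1.1 t.1.2 t'.1.1 t'.1.2 ∘ s2.1.1.2) :=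
    congrArg (fun x => x.1.1) h12
  have key1 : ∀ (s : {s : HSysJ d F h // spJ s = spJ t}) (a : Fin h),
      T (BBJ F d) t'.1.1 t'.1.2 t.1.1 t.1.2 (T (BBJ F d) t.1.1 t.1.2 t'.1.1 t'.1.2 (s.1.1.1 a)) =
        s.1.1.1 a := by
    intro s a
    rw [T_T S', T_self S (hmem1 s a)]
  have key2 : ∀ (s : {s : HSysJ d F h // spJ s = spJ t}) (a : Fin h),
      T (BBJ F d) t'.1.1 t'.1.2 t.1.1 t.1.2 (T (BBJ F d) t.1.1 t.1.2 t'.1.1 t'.1.2 (s.1.1.2 a)) =
        s.1.1.2 a := by
    intro s a
    rw [T_T S', T_self S (hmem2 s a)]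
  apply Subtype.ext
  apply Subtype.ext
  apply Prod.ext
  · funext a
    rw [← key1 s1 a, ← key1 s2 a]
    exact congrArg _ (congrFun (congrArg Prod.fst h12') a)
  · funext a
    rw [← key2 s1 a, ← key2 s2 a]
    exact congrArg _ (congrFun (congrArg Prod.snd h12') a)

end conc

theorem main : HypFibJ.{u} := by
  intro F _ _ d h _
  classical
  haveI : Finite (HSysJ d F h) := by unfold HSysJ; infer_instance
  haveI : Finite (Submodule F (P d → F)) :=
    Finite.of_injective (fun W : Submodule F (P d → F) => (W : Set (P d → F)))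
      SetLike.coe_injective
  by_cases hemp : IsEmpty (HSysJ d F h)
  · have : Nat.card (HSysJ d F h) = 0 := Nat.card_of_isEmpty
    rw [this]
    exact dvd_zero _
  · rw [not_isEmpty_iff] at hemp
    obtain ⟨t0⟩ := hemp
    let σ' : HSysJ d F h → {W : Submodule F (P d → F) // HypJ d F (2 * h) W} :=
      fun t => ⟨spJ t, hyp_spJ t⟩
    have hconst : ∀ W : {W : Submodule F (P d → F) // HypJ d F (2 * h) W},
        Nat.card {s : HSysJ d F h // σ' s = W} =
          Nat.card {s : HSysJ d F h // spJ s = spJ t0} := by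
      intro W
      obtain ⟨t, ht⟩ := exists_spJ W.2
      have e1 : {s : HSysJ d F h // σ' s = W} ≃ {s : HSysJ d F h // spJ s = spJ t} :=
        Equiv.subtypeEquivRight (fun s => by rw [ht]; exact Subtype.ext_iff)
      rw [Nat.card_congr e1]
      exact le_antisymm (fib_leJ t t0) (fib_leJ t0 t)
    have e2 : Nat.card (HSysJ d F h) =
        Nat.card (Σ W : {W : Submodule F (P d → F) // HypJ d F (2 * h) W},
          {s : HSysJ d F h // σ' s = W}) :=
      Nat.card_congr (Equiv.sigmaFiberEquiv σ').symm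
    haveI : Fintype {W : Submodule F (P d → F) // HypJ d F (2 * h) W} := Fintype.ofFinite _
    have hcard : Nat.card (HSysJ d F h) =
        Nat.card {W : Submodule F (P d → F) // HypJ d F (2 * h) W} *
          Nat.card {s : HSysJ d F h // spJ s = spJ t0} := by
      rw [e2, Nat.card_sigma, Finset.sum_congr rfl (fun W _ => hconst W), Finset.sum_const,
        Finset.card_univ, smul_eq_mul, Fintype.card_eq_nat_card]
    rw [hcard]
    exact dvd_mul_right _ _

end Cfsg.Agent.Lib.Helper91.HPHYPFIBJ
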