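import Mathlib
import Cfsg.Agent.Lib.Helper40.HPStmt
import Cfsg.Agent.Lib.Helper91.HPHYPFIBJ
import Cfsg.Agent.Lib.Helper44.NegPairs
import Cfsg.Agent.Lib.Helper44.Inv7
import Cfsg.Agent.Lib.Helper44.TSTrans

set_option autoImplicit false
set_option maxHeartbeats 400000

/-!
# S5974 piece NEGSQFIX1 (helper91): `q ≡ 1 (mod 4)`: an isometry with `x * x = -1` fixes a
hyperbolic `m`-space (a hyperbolic system `e_a ∈ V_ι`, `f_b ∈ V_{-ι}`).
-/

namespace Cfsg.Agent.Lib.Helper91.HPNEGSQFIX1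

open Module QuadraticMap
open Cfsg.Agent.Lib.Helper44.QSpace Cfsg.Agent.Lib.Helper44.NegPairs
open Cfsg.Agent.Lib.Helper40.HPStmt
open Cfsg.Agent.Lib.Helper94.OPStmt (P StabP)
open Cfsg.Agent.Lib.Helper91.HypHYPFIB (Sys)
open Cfsg.Agent.Lib.Helper91.HPHYPFIBJ (BBJ BBJ_apply BBJ_symm mkJ spJ hyp_spJ)

universe u

theorem main : NegSqFix1.{u} := by
  intro F _ _ hq d m hd hm hme hmd x hx hxx
  classical
  have h2 : (2 : F) ≠ 0 := by
    apply Ring.two_ne_zero
    intro hc
    have := FiniteField.even_card_iff_char_two.mp hc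
    omega
  obtain ⟨ι, hι⟩ : ∃ ι : F, ι * ι = -1 := by
    have h := (FiniteField.isSquare_neg_one_iff (F := F)).mpr (by omega)
    obtain ⟨c, hc⟩ := h
    exact ⟨c, hc.symm⟩
  have hι0 : ι ≠ 0 := by
    rintro rfl
    rw [mul_zero] at hι
    have h1 : (1 : F) = 0 := by linear_combination hι
    exact one_ne_zero h1
  obtain ⟨A, hA⟩ : ∃ A : (P d → F) →ₗ[F] (P d → F),
      A = Matrix.toLin' (x : Matrix (P d) (P d) F) := ⟨_, rfl⟩
  have hAA : ∀ v, A (A v) = -v := by
    intro v
    rw [hA, Matrix.toLin'_apply, Matrix.toLin'_apply, Matrix.mulVec_mulVec, hxx,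
      Matrix.neg_mulVec, Matrix.one_mulVec]
  have hAQ : ∀ v, plusQ d F (A v) = plusQ d F v := by
    intro v
    rw [hA, Matrix.toLin'_apply]
    exact hx v v
  have hS : Sep (plusQ d F) := sep_plusQ d
  obtain ⟨Ep, hEp⟩ : ∃ Ep : Submodule F (P d → F),
      Ep = LinearMap.ker (A - ι • LinearMap.id) := ⟨_, rfl⟩
  obtain ⟨Em, hEm⟩ : ∃ Em : Submodule F (P d → F),
      Em = LinearMap.ker (A + ι • LinearMap.id) := ⟨_, rfl⟩
  have hmemp : ∀ v, v ∈ Ep ↔ A v = ι • v := by
    intro v
    rw [hEp, LinearMap.mem_ker, LinearMap.sub_apply, LinearMap.smul_apply,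
      LinearMap.id_apply, sub_eq_zero]
  have hmemm : ∀ v, v ∈ Em ↔ A v = -(ι • v) := by
    intro v
    rw [hEm, LinearMap.mem_ker, LinearMap.add_apply, LinearMap.smul_apply,
      LinearMap.id_apply, add_eq_zero_iff_eq_neg]
  have hsingp : ∀ v ∈ Ep, plusQ d F v = 0 := by
    intro v hv
    have hv2 := (hmemp v).mp hv
    have h1 := hAQ v
    rw [hv2, q_smul, hι] at h1
    have h3 : (2 : F) * plusQ d F v = 0 := by linear_combination -h1
    exact (mul_eq_zero.mp h3).resolve_left h2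
  have hsingm : ∀ v ∈ Em, plusQ d F v = 0 := by
    intro v hv
    have hv2 := (hmemm v).mp hv
    have h1 := hAQ v
    rw [hv2, QuadraticMap.map_neg, q_smul, hι] at h1
    have h3 : (2 : F) * plusQ d F v = 0 := by linear_combination -h1
    exact (mul_eq_zero.mp h3).resolve_left h2
  have hsup : Ep ⊔ Em = ⊤ := by
    rw [eq_top_iff]
    intro v _
    have e : v = (2 : F)⁻¹ • (v - ι • A v) + (2 : F)⁻¹ • (v + ι • A v) := by
      rw [← smul_add]
      have h4 : v - ι • A v + (v + ι • A v) = (2 : F) • v := by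
        rw [two_smul]
        abel
      rw [h4, smul_smul, inv_mul_cancel₀ h2, one_smul]
    rw [e]
    apply Submodule.add_mem_sup
    · rw [hmemp, map_smul, map_sub, map_smul, hAA, smul_comm ι ((2 : F)⁻¹), smul_sub ι,
        smul_smul ι ι, hι]
      congr 1
      rw [neg_smul, one_smul, smul_neg]
      abel
    · rw [hmemm, map_smul, map_add, map_smul, hAA, smul_comm ι ((2 : F)⁻¹), smul_add ι,
        smul_smul ι ι, hι, ← smul_neg]
      congr 1
      rw [neg_smul, one_smul, smul_neg]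
      abel
  have hinf : Ep ⊓ Em = ⊥ := by
    rw [eq_bot_iff]
    rintro v ⟨h1, h2'⟩
    have e1 := (hmemp v).mp h1
    have e2 := (hmemm v).mp h2'
    rw [Submodule.mem_bot]
    have h3 : ι • v = -(ι • v) := e1.symm.trans e2
    have h4 : (2 * ι) • v = 0 := by
      rw [mul_smul, two_smul]
      exact eq_neg_iff_add_eq_zero.mp h3
    rcases smul_eq_zero.mp h4 with h | h
    · exact absurd h (mul_ne_zero h2 hι0)
    · exact h
  have hV : finrank F (P d → F) = 2 * d := by
    rw [Module.finrank_fintype_fun_eq_card, Fintype.card_sum, Fintype.card_fin]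
    omega
  have hdim : finrank F ↥Ep + finrank F ↥Em = 2 * d := by
    have h := Submodule.finrank_sup_add_finrank_inf_eq Ep Em
    rw [hsup, hinf, finrank_bot, add_zero, finrank_top, hV] at h
    exact h.symm
  have hp2 : 2 * finrank F ↥Ep ≤ 2 * d := by
    have h := Cfsg.Agent.Lib.Helper44.Inv7.two_finrank_le_of_sing hS hsingp
    rw [hV] at h
    exact h
  have hm2 : 2 * finrank F ↥Em ≤ 2 * d := by
    have h := Cfsg.Agent.Lib.Helper44.Inv7.two_finrank_le_of_sing hS hsingm
    rw [hV] at h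
    exact h
  have hEpd : finrank F ↥Ep = d := by omega
  have hBp : ∀ u ∈ Ep, ∀ v ∈ Ep, polar (plusQ d F) u v = 0 := fun u hu v hv =>
    Cfsg.Agent.Lib.Helper44.TSTrans.polar_of_sing hsingp hu hv
  have hBm : ∀ u ∈ Em, ∀ v ∈ Em, polar (plusQ d F) u v = 0 := fun u hu v hv =>
    Cfsg.Agent.Lib.Helper44.TSTrans.polar_of_sing hsingm hu hv
  obtain ⟨h, hh⟩ := hme
  have hhd : h ≤ d := by omega
  let bE : Module.Basis (Fin d) F Ep := Module.finBasisOfFinrankEq F Ep hEpd
  obtain ⟨e, he⟩ : ∃ e : Fin h → (P d → F), e = fun a => (bE (Fin.castLE hhd a) : P d → F) :=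
    ⟨_, rfl⟩
  have heE : ∀ a, e a ∈ Ep := by
    intro a
    rw [he]
    exact (bE _).2
  have hli : LinearIndependent F e := by
    have h1 := bE.linearIndependent.comp (Fin.castLE hhd) (Fin.castLE_injective hhd)
    have h3 := h1.map' Ep.subtype (Submodule.ker_subtype Ep)
    rw [he]
    exact h3
  let φ : ↥Em →ₗ[F] (Fin h → F) := LinearMap.pi (fun a => (BBJ F d (e a)).comp Em.subtype)
  have hφ : ∀ w a, φ w a = BBJ F d (e a) (w : P d → F) := fun w a => rfl
  have hsurj : Function.Surjective φ := by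
    rw [← LinearMap.range_eq_top]
    by_contra hne
    obtain ⟨ψ, hψ0, hψ⟩ := Submodule.exists_le_ker_of_lt_top (LinearMap.range φ)
      (lt_top_iff_ne_top.mpr hne)
    obtain ⟨c, hc⟩ : ∃ c : Fin h → F, c = fun a => ψ (fun j => if a = j then 1 else 0) :=
      ⟨_, rfl⟩
    have hψx : ∀ x : Fin h → F, ψ x = ∑ a, x a * c a := by
      intro x
      rw [LinearMap.pi_apply_eq_sum_univ ψ x]
      simp [hc]
    obtain ⟨u0, hu0⟩ : ∃ u0 : P d → F, u0 = ∑ a, c a • e a := ⟨_, rfl⟩
    have hu0E : u0 ∈ Ep := by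
      rw [hu0]
      exact Submodule.sum_mem _ (fun a _ => Submodule.smul_mem _ _ (heE a))
    have hB0 : ∀ w ∈ Em, BBJ F d u0 w = 0 := by
      intro w hw
      have h1 : ψ (φ ⟨w, hw⟩) = 0 := LinearMap.mem_ker.mp (hψ ⟨⟨w, hw⟩, rfl⟩)
      rw [hψx] at h1
      rw [hu0, map_sum, LinearMap.sum_apply]
      simp only [map_smul, LinearMap.smul_apply, smul_eq_mul]
      rw [← h1]
      refine Finset.sum_congr rfl fun a _ => ?_
      rw [hφ]
      ring
    have hu00 : u0 ≠ 0 := by
      intro h0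
      apply hψ0
      have hc0 : ∀ a, c a = 0 := by
        rw [Fintype.linearIndependent_iff] at hli
        apply hli c
        rw [← hu0]
        exact h0
      apply LinearMap.ext
      intro x
      rw [hψx]
      simp [hc0]
    apply hu00
    apply hS
    intro y
    have hy : y ∈ Ep ⊔ Em := by
      rw [hsup]
      exact Submodule.mem_top
    obtain ⟨y1, hy1, y2, hy2, rfl⟩ := Submodule.mem_sup.mp hy
    rw [polar_add_right, hBp u0 hu0E y1 hy1, zero_add]
    exact hB0 y2 hy2
  choose g hg using fun b => hsurj (Pi.single b 1)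
  have hg' : ∀ a b, BBJ F d (e a) (g b : P d → F) = if a = b then 1 else 0 := by
    intro a b
    have := congrFun (hg b) a
    rw [hφ] at this
    rw [this, Pi.single_apply]
  have S : Sys (BBJ F d) e (fun b => (g b : P d → F)) :=
    ⟨fun a b => hBp _ (heE a) _ (heE b), fun a b => hBm _ (g a).2 _ (g b).2, hg', fun a b => by
      rw [BBJ_symm, hg']
      simp [eq_comm]⟩
  have hm2h : m = 2 * h := by omega
  refine ⟨spJ (mkJ e (fun b => (g b : P d → F)) S (fun a => hsingp _ (heE a))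
    (fun a => hsingm _ (g a).2)), ?_, ?_⟩
  · rw [hm2h]
    exact hyp_spJ _
  · unfold StabP spJ
    rw [Submodule.map_span_le]
    rintro _ ⟨c, rfl⟩
    rcases c with a | a
    · have h1 : A (e a) = ι • e a := (hmemp _).mp (heE a)
      rw [hA] at h1
      show Matrix.toLin' (x : Matrix (P d) (P d) F) (e a) ∈ _
      rw [h1]
      exact Submodule.smul_mem _ _ (Submodule.subset_span ⟨Sum.inl a, rfl⟩)
    · have h1 : A (g a : P d → F) = -(ι • (g a : P d → F)) := (hmemm _).mp (g a).2
      rw [hA] at h1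
      show Matrix.toLin' (x : Matrix (P d) (P d) F) (g a : P d → F) ∈ _
      rw [h1]
      exact Submodule.neg_mem _
        (Submodule.smul_mem _ _ (Submodule.subset_span ⟨Sum.inr a, rfl⟩))

end Cfsg.Agent.Lib.Helper91.HPNEGSQFIX1
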