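import Mathlib
import Cfsg.Agent.Lib.Helper94.OMiPStmt
import Cfsg.Agent.Lib.Helper44.NegPairs

/-!
# S5991 / MCHOOSE1: some class `β` is not the type of any member (from `MUniq`).
Also the transport of `TypeM` along an isometry of subspaces.
-/

set_option autoImplicit false
set_option maxHeartbeats 400000

namespace Cfsg.Agent.Lib.Helper91.MCHOOSE1

open Module QuadraticMap
open Cfsg.Agent.Lib.Helper44.QSpace Cfsg.Agent.Lib.Helper44.NegPairs
open Cfsg.Agent.Lib.Helper94.OMiPStmt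

universe u

/-- transport of the type along an isometry of subspaces -/
theorem typeM_transport {F : Type u} [Field F] (d : ℕ) (a b β : F)
    (W W₀ : Submodule F (Mi d → F))
    (h : Cfsg.Geo.AreIsometricFor (Cfsg.quadFormMinus (d - 1) F a b) W W₀)
    (hT : TypeM d a b β W) : TypeM d a b β W₀ := by
  obtain ⟨e, he⟩ := h
  obtain ⟨S, hSW, hS0, hdim, w, hw, hSw, hQw⟩ := hT
  obtain ⟨f, hf⟩ : ∃ f : ↥W →ₗ[F] (Mi d → F), f = W₀.subtype ∘ₗ e.toLinearMap := ⟨_, rfl⟩
  have hfapp : ∀ x : W, f x = ((e x : W₀) : Mi d → F) := by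
    intro x
    rw [hf]
    rfl
  have hfinj : Function.Injective f := by
    intro x y hxy
    rw [hfapp, hfapp] at hxy
    exact e.injective (Subtype.ext hxy)
  have hfQ : ∀ x : W, Cfsg.quadFormMinus (d - 1) F a b (f x)
      = Cfsg.quadFormMinus (d - 1) F a b (x : Mi d → F) := by
    intro x
    rw [hfapp]
    exact he x
  have hfpol : ∀ x y : W, polar (Cfsg.quadFormMinus (d - 1) F a b) (f x) (f y)
      = polar (Cfsg.quadFormMinus (d - 1) F a b) (x : Mi d → F) (y : Mi d → F) := by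
    intro x y
    unfold polar
    rw [← map_add, hfQ, hfQ, hfQ]
    rfl
  refine ⟨(S.comap W.subtype).map f, ?_, ?_, ?_, f ⟨w, hw⟩, ?_, ?_, ?_⟩
  · rintro _ ⟨x, -, rfl⟩
    rw [hfapp]
    exact (e x).2
  · rintro _ ⟨x, hx, rfl⟩
    rw [hfQ]
    exact hS0 _ hx
  · have h1 : finrank F ↥((S.comap W.subtype).map f) = finrank F ↥(S.comap W.subtype) :=
      (Submodule.equivMapOfInjective f hfinj (S.comap W.subtype)).finrank_eq.symm
    have h2 : finrank F ↥(S.comap W.subtype) = finrank F ↥S := by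
      rw [← Submodule.finrank_map_subtype_eq W (S.comap W.subtype), Submodule.map_comap_subtype,
        inf_eq_right.mpr hSW]
    rw [h1, h2, hdim]
    exact e.finrank_eq
  · rw [hfapp]
    exact (e ⟨w, hw⟩).2
  · rintro _ ⟨x, hx, rfl⟩
    rw [hfpol]
    exact hSw _ hx
  · rw [hfQ]
    exact hQw

theorem exists_nonsq {F : Type u} [Field F] [Fintype F] (hodd : Odd (Fintype.card F)) :
    ∃ ν : F, ν ≠ 0 ∧ ¬ IsSquare ν := by
  have h2 : ringChar F ≠ 2 := by
    intro hc
    have := FiniteField.even_card_iff_char_two.mp hc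
    rw [Nat.odd_iff] at hodd
    omega
  obtain ⟨ν, hν⟩ := FiniteField.exists_nonsquare h2
  refine ⟨ν, ?_, hν⟩
  rintro rfl
  exact hν ⟨0, by simp⟩

theorem main (hU : MUniq.{u}) : MChoose1.{u} := by
  intro F _ _ hodd d m hd hm a b hab W₀ hW₀ hND
  obtain ⟨ν, hν0, hν⟩ := exists_nonsq hodd
  by_cases h1 : ∀ W : Submodule F (Mi d → F), MemM d a b m W₀ W → ¬ TypeM d a b 1 W
  · exact ⟨1, one_ne_zero, h1⟩
  · refine ⟨ν, hν0, ?_⟩
    intro W' hW' hT'
    push Not at h1
    obtain ⟨W, hW, hT⟩ := h1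
    have t1 : TypeM d a b 1 W₀ := typeM_transport d a b 1 W W₀ hW.2.2 hT
    have t2 : TypeM d a b ν W₀ := typeM_transport d a b ν W' W₀ hW'.2.2 hT'
    obtain ⟨c, hc⟩ := hU F hodd d (by omega) a b hab W₀ hND ν 1 one_ne_zero t2 t1
    exact hν ⟨c, by rw [hc, mul_one]⟩

end Cfsg.Agent.Lib.Helper91.MCHOOSE1
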