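import Mathlib
import Cfsg.Agent.Lib.Helper94.OMiPStmt
import Cfsg.Agent.Lib.Helper44.NegPairs
import Cfsg.Agent.Lib.Helper44.WittND2
import Cfsg.Agent.Lib.Helper91.MCHOOSE1

/-!
# S5991 / MCHOOSE3: some class `β` is not the type of the perp of any member
(from `MUniq` and Witt's extension theorem).
-/

set_option autoImplicit false
set_option maxHeartbeats 400000

namespace Cfsg.Agent.Lib.Helper91.MCHOOSE3

open Module QuadraticMap
open Cfsg.Agent.Lib.Helper44.QSpace Cfsg.Agent.Lib.Helper44.NegPairs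
open Cfsg.Agent.Lib.Helper44.WittND Cfsg.Agent.Lib.Helper44.WittND2
open Cfsg.Agent.Lib.Helper44.OGroup
open Cfsg.Agent.Lib.Helper94.OMiPStmt
open Cfsg.Agent.Lib.Helper91.MCHOOSE1

universe u

/-- `NDegM` gives `W ⊓ W^⊥ = ⊥` -/
theorem inf_orth_of_ndeg {F : Type u} [Field F] (d : ℕ) (a b : F) (W : Submodule F (Mi d → F))
    (hND : NDegM d a b W) :
    W ⊓ LinearMap.BilinForm.orthogonal (polarBilin (minusQ (d - 1) F a b)) W = ⊥ := by
  rw [eq_bot_iff]
  rintro x ⟨hx1, hx2⟩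
  rw [Submodule.mem_bot]
  by_contra hx0
  obtain ⟨⟨z, hz, hz0⟩, -⟩ := hND x hx1 hx0
  exact hz0 (hx2 z hz)

/-- `NDsub` gives `NDegM` -/
theorem ndeg_of_ndsub {F : Type u} [Field F] (d : ℕ) (a b : F) (W : Submodule F (Mi d → F))
    (h : NDsub (minusQ (d - 1) F a b) W) : NDegM d a b W := by
  intro w hw hw0
  have key : ∃ x ∈ W, polar (minusQ (d - 1) F a b) w x ≠ 0 := by
    by_contra hcon
    push Not at hcon
    exact hw0 (h w hw hcon)
  obtain ⟨x, hx, hx0⟩ := key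
  refine ⟨⟨x, hx, ?_⟩, ⟨x, hx, hx0⟩⟩
  intro h0
  apply hx0
  rw [polar_comm]
  exact h0

/-- the perps of two isometric nondegenerate subspaces are isometric -/
theorem perp_isom {F : Type u} [Field F] [Fintype F] (h2 : (2 : F) ≠ 0) (d : ℕ) (a b : F)
    (hab : Aniso a b) (W W₀ U U₀ : Submodule F (Mi d → F)) (hND : NDegM d a b W)
    (hiso : Cfsg.Geo.AreIsometricFor (Cfsg.quadFormMinus (d - 1) F a b) W W₀)
    (hU : IsPerpM d a b W U) (hU₀ : IsPerpM d a b W₀ U₀) :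
    Cfsg.Geo.AreIsometricFor (Cfsg.quadFormMinus (d - 1) F a b) U U₀ := by
  have hS : Sep (minusQ (d - 1) F a b) := sep_minusQ h2 (d - 1) a b hab
  obtain ⟨e, he⟩ := hiso
  obtain ⟨g, hg, hgW⟩ := exists_O_map hS (inf_orth_of_ndeg d a b W hND) e he
  have hmap : U.map (g : (Mi d → F) →ₗ[F] (Mi d → F)) = U₀ := by
    apply le_antisymm
    · rintro _ ⟨v, hv, rfl⟩
      rw [hU₀]
      intro w₀ hw₀
      rw [← hgW] at hw₀
      obtain ⟨w, hw, rfl⟩ := hw₀
      have h1 := polar_of_mem_O hg w v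
      have h3 := (hU v).mp hv w hw
      exact h1.trans h3
    · intro v₀ hv₀
      refine ⟨g.symm v₀, ?_, g.apply_symm_apply v₀⟩
      rw [SetLike.mem_coe, hU]
      intro w hw
      have h1 := polar_of_mem_O hg w (g.symm v₀)
      rw [g.apply_symm_apply] at h1
      have h3 : g w ∈ W₀ := by
        rw [← hgW]
        exact Submodule.mem_map_of_mem hw
      have h4 := (hU₀ v₀).mp hv₀ (g w) h3
      exact h1.symm.trans h4
  refine ⟨LinearEquiv.ofSubmodules g U U₀ hmap, ?_⟩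
  intro w
  rw [LinearEquiv.ofSubmodules_apply]
  exact hg (w : Mi d → F)

theorem main (hUq : MUniq.{u}) (_hSp : MSplit.{u}) : MChoose3.{u} := by
  intro F _ _ hodd d m hd hm a b hab W₀ hW₀ hND
  have h2 : (2 : F) ≠ 0 := by
    apply Ring.two_ne_zero
    intro hc
    have := FiniteField.even_card_iff_char_two.mp hc
    rw [Nat.odd_iff] at hodd
    omega
  have hS : Sep (minusQ (d - 1) F a b) := sep_minusQ h2 (d - 1) a b hab
  obtain ⟨U₀, hU₀def⟩ : ∃ U₀, U₀ = LinearMap.BilinForm.orthogonal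
    (polarBilin (minusQ (d - 1) F a b)) W₀ := ⟨_, rfl⟩
  have hU₀ : IsPerpM d a b W₀ U₀ := by
    intro v
    rw [hU₀def]
    exact Iff.rfl
  have hU₀nd : NDegM d a b U₀ := by
    apply ndeg_of_ndsub
    rw [hU₀def]
    exact ndsub_orth hS (inf_orth_of_ndeg d a b W₀ hND)
  obtain ⟨ν, hν0, hν⟩ := exists_nonsq hodd
  by_cases h1 : ∀ W : Submodule F (Mi d → F), MemM d a b m W₀ W →
      ∀ U : Submodule F (Mi d → F), IsPerpM d a b W U → ¬ TypeM d a b 1 U
  · exact ⟨1, one_ne_zero, h1⟩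
  · refine ⟨ν, hν0, ?_⟩
    intro W' hW' U' hU' hT'
    push Not at h1
    obtain ⟨W, hW, U, hU, hT⟩ := h1
    have t1 : TypeM d a b 1 U₀ := typeM_transport d a b 1 U U₀
      (perp_isom h2 d a b hab W W₀ U U₀ hW.2.1 hW.2.2 hU hU₀) hT
    have t2 : TypeM d a b ν U₀ := typeM_transport d a b ν U' U₀
      (perp_isom h2 d a b hab W' W₀ U' U₀ hW'.2.1 hW'.2.2 hU' hU₀) hT'
    obtain ⟨c, hc⟩ := hUq F hodd d (by omega) a b hab U₀ hU₀nd ν 1 one_ne_zero t2 t1
    exact hν ⟨c, by rw [hc, mul_one]⟩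

end Cfsg.Agent.Lib.Helper91.MCHOOSE3
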