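import Mathlib
import Cfsg.Agent.Lib.Helper94.OMiPStmt
import Cfsg.Agent.Lib.Helper44.NegPairs
import Cfsg.Agent.Lib.Helper44.WittND2
import Cfsg.Agent.Lib.Helper44.TSTrans

/-!
# S5991 / MUNIQ: the type of a nondegenerate odd-dimensional subspace is unique modulo squares
(Witt's theorem for totally singular subspaces, `Helper44.TSTrans.exists_prod_map`).
-/

set_option autoImplicit false
set_option maxHeartbeats 400000

namespace Cfsg.Agent.Lib.Helper91.MUNIQ

open Module QuadraticMap
open Cfsg.Agent.Lib.Helper44.QSpace Cfsg.Agent.Lib.Helper44.NegPairs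
open Cfsg.Agent.Lib.Helper44.WittND Cfsg.Agent.Lib.Helper44.WittND2
open Cfsg.Agent.Lib.Helper44.OGroup Cfsg.Agent.Lib.Helper44.TSTrans
open Cfsg.Agent.Lib.Helper94.OMiPStmt

universe u

/-- abstract form: in a nondegenerate space of dimension `2 k + 1`, the value of `Q` on a vector
orthogonal to a totally singular `k`-space is determined up to squares -/
theorem uniq_abs {F : Type*} [Field F] {V : Type u} [AddCommGroup V] [Module F V]
    [FiniteDimensional F V] (Q : QuadraticForm F V) (hS : Sep Q) (S S' : Submodule F V)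
    (hS0 : ∀ s ∈ S, Q s = 0) (hS'0 : ∀ s ∈ S', Q s = 0)
    (hdim : 2 * finrank F S + 1 = finrank F V) (hdim' : 2 * finrank F S' + 1 = finrank F V)
    (w w' : V) (hw : ∀ s ∈ S, polar Q s w = 0) (hw' : ∀ s ∈ S', polar Q s w' = 0)
    (hβ' : Q w' ≠ 0) : ∃ c : F, Q w = c * c * Q w' := by
  obtain ⟨vs, hvs, hmap⟩ := exists_prod_map hS _ S S' hS0 hS'0 (by omega) rfl
  obtain ⟨g, hgdef⟩ : ∃ g : V ≃ₗ[F] V, g = (vs.map (reflE Q)).prod := ⟨_, rfl⟩
  rw [← hgdef] at hmap
  have hg : g ∈ O Q := by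
    rw [hgdef]
    apply Subgroup.list_prod_mem
    intro x hx
    obtain ⟨v, -, rfl⟩ := List.mem_map.mp hx
    exact reflE_mem Q v
  have hgw : ∀ s' ∈ S', polar Q s' (g w) = 0 := by
    intro s' hs'
    rw [← hmap] at hs'
    obtain ⟨s, hs, rfl⟩ := hs'
    exact (polar_of_mem_O hg s w).trans (hw s hs)
  have hfo := LinearMap.BilinForm.finrank_orthogonal (nondegenerate_of_sep hS) S'
  have hle : S' ⊔ Submodule.span F {w'} ≤ LinearMap.BilinForm.orthogonal (polarBilin Q) S' := by
    apply sup_le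
    · intro x hx y hy
      exact polar_of_sing hS'0 hy hx
    · rw [Submodule.span_singleton_le_iff_mem]
      intro y hy
      exact hw' y hy
  have hw'S : w' ∉ S' := fun h => hβ' (hS'0 w' h)
  have hlt : S' < S' ⊔ Submodule.span F {w'} := by
    apply lt_of_le_of_ne le_sup_left
    intro h
    apply hw'S
    rw [h]
    exact Submodule.mem_sup_right (Submodule.mem_span_singleton_self w')
  have hlt' := Submodule.finrank_lt_finrank_of_lt hlt
  have heq : S' ⊔ Submodule.span F {w'} = LinearMap.BilinForm.orthogonal (polarBilin Q) S' := by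
    apply Submodule.eq_of_le_of_finrank_le hle
    omega
  have hmem : g w ∈ S' ⊔ Submodule.span F {w'} := by
    rw [heq]
    intro y hy
    exact hgw y hy
  obtain ⟨s', hs', z, hz, hsz⟩ := Submodule.mem_sup.mp hmem
  obtain ⟨c, rfl⟩ := Submodule.mem_span_singleton.mp hz
  refine ⟨c, ?_⟩
  have h1 : Q (g w) = Q w := hg w
  rw [← h1, ← hsz, q_add, q_smul, polar_smul_r, hS'0 s' hs', hw' s' hs']
  ring

theorem finrank_comap_subtype {F : Type*} [Field F] {V : Type u} [AddCommGroup V] [Module F V]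
    {S U : Submodule F V} (h : S ≤ U) : finrank F ↥(S.comap U.subtype) = finrank F ↥S := by
  rw [← Submodule.finrank_map_subtype_eq U (S.comap U.subtype), Submodule.map_comap_subtype,
    inf_eq_right.mpr h]

theorem main : MUniq.{u} := by
  intro F _ _ hodd d hd a b hab U hND β β' hβ' hT hT'
  have hWnd : NDsub (minusQ (d - 1) F a b) U := by
    intro y hy hyz
    by_contra hy0
    obtain ⟨-, z, hz, hz0⟩ := hND y hy hy0
    exact hz0 (hyz z hz)
  obtain ⟨S, hSU, hS0, hdim, w, hw, hSw, hQw⟩ := hT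
  obtain ⟨S', hSU', hS0', hdim', w', hw', hSw', hQw'⟩ := hT'
  have key := uniq_abs (res (minusQ (d - 1) F a b) U) (sep_res_of_ndsub hWnd)
    (S.comap U.subtype) (S'.comap U.subtype)
    (fun s hs => hS0 _ hs) (fun s hs => hS0' _ hs)
    (by rw [finrank_comap_subtype hSU]; exact hdim)
    (by rw [finrank_comap_subtype hSU']; exact hdim')
    ⟨w, hw⟩ ⟨w', hw'⟩ (fun s hs => hSw _ hs) (fun s hs => hSw' _ hs)
    (by
      show Cfsg.quadFormMinus (d - 1) F a b w' ≠ 0
      rw [hQw']
      exact hβ')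
  obtain ⟨c, hc⟩ := key
  refine ⟨c, ?_⟩
  have h1 : Cfsg.quadFormMinus (d - 1) F a b w
      = c * c * Cfsg.quadFormMinus (d - 1) F a b w' := hc
  rw [hQw, hQw'] at h1
  exact h1

end Cfsg.Agent.Lib.Helper91.MUNIQ
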