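import Mathlib
import Cfsg.Agent.Lib.Helper68.MixStmt

/-!
# S4017 / A2N (helper91, call by helper68)
-/

set_option autoImplicit false

universe u

namespace Cfsg.Agent.Lib.Helper91.MixA2N

open Subgroup Cfsg.Agent.Lib.Helper68.MixStmt

theorem comm_mem_normalizer {G : Type u} [Group G] {x g : G} (h : g * x = x * g) :
    g ∈ normalizer ((zpowers x : Subgroup G) : Set G) := by
  have hc : g ∈ centralizer ((zpowers x : Subgroup G) : Set G) := by
    rw [mem_centralizer_iff]
    intro w hw
    obtain ⟨k, rfl⟩ := mem_zpowers_iff.mp hw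
    exact ((Commute.zpow_right (show Commute g x from h) k).eq).symm
  exact centralizer_le_normalizer _ hc

theorem main (hCQY : CQY.{u}) (hLEMY : LEMY.{u}) : A2N.{u} := by
  intro G _ _ p a Q y hB x hx hxp hx1
  apply hLEMY G p a Q y hB
  · intro htop
    have hn : (zpowers x).Normal := normalizer_eq_top_iff.mp htop
    obtain ⟨k, hk⟩ := hxp
    have hpg : IsPGroup p (zpowers x) :=
      IsPGroup.of_card (n := k) (by rw [Nat.card_zpowers, hk])
    exact hx1 (zpowers_eq_bot.mp (hB.hOp _ hn hpg))
  · intro s hs
    apply comm_mem_normalizer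
    exact mem_centralizer_iff.mp hx s hs
  · apply comm_mem_normalizer
    exact (hCQY G p a Q y hB x hx hxp).symm

end Cfsg.Agent.Lib.Helper91.MixA2N
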