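import Mathlib
import Cfsg.Agent.Lib.Helper68.MixStmt
import Cfsg.Agent.Lib.Helper91.MixA2N

/-!
# S4017 / A2a (helper91, second seat; call by helper68)

Extra hypothesis besides the suggested ones: `CQY` (an earlier piece).
-/

set_option autoImplicit false

universe u

namespace Cfsg.Agent.Lib.Helper91.MixA2a

open Subgroup Cfsg.Agent.Lib.Helper68.MixStmt

variable {G : Type u} [Group G]

theorem mem_map_conj (h x : G) (Q : Subgroup G) :
    x ∈ Q.map (MulAut.conj h).toMonoidHom ↔ h⁻¹ * x * h ∈ Q := by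
  rw [Subgroup.mem_map]
  constructor
  · rintro ⟨s, hs, rfl⟩
    have : h⁻¹ * ((MulAut.conj h).toMonoidHom s) * h = s := by
      show h⁻¹ * (h * s * h⁻¹) * h = s
      group
    rw [this]
    exact hs
  · intro hx
    refine ⟨h⁻¹ * x * h, hx, ?_⟩
    show h * (h⁻¹ * x * h) * h⁻¹ = x
    group

theorem caseA_conj {Q : Subgroup G} (hA : CaseA Q) (h : G) :
    CaseA (Q.map (MulAut.conj h).toMonoidHom) := by
  intro t ht ht1 c hc
  rw [mem_map_conj] at ht
  have ht1' : h⁻¹ * t * h ≠ 1 := by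
    intro h1
    apply ht1
    have : t = h * (h⁻¹ * t * h) * h⁻¹ := by group
    rw [this, h1]
    group
  have hc' : t * c = c * t := mem_centralizer_iff.mp hc t rfl
  have hc0 : h⁻¹ * c * h ∈ centralizer ({h⁻¹ * t * h} : Set G) := by
    rw [mem_centralizer_iff]
    intro x hx
    rw [Set.mem_singleton_iff] at hx
    subst hx
    have e1 : h⁻¹ * t * h * (h⁻¹ * c * h) = h⁻¹ * (t * c) * h := by group
    have e2 : h⁻¹ * c * h * (h⁻¹ * t * h) = h⁻¹ * (c * t) * h := by group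
    rw [e1, e2, hc']
  have hn := hA _ ht ht1' hc0
  rw [mem_normalizer_iff] at hn ⊢
  intro x
  rw [mem_map_conj, mem_map_conj, hn (h⁻¹ * x * h)]
  have e : h⁻¹ * c * h * (h⁻¹ * x * h) * (h⁻¹ * c * h)⁻¹ = h⁻¹ * (c * x * c⁻¹) * h := by group
  rw [e]

theorem conj_into_sylow [Finite G] {p : ℕ} [Fact p.Prime] {x : G} (hx : IsPElt p x)
    (P : Sylow p G) : ∃ g : G, g * x * g⁻¹ ∈ P := by
  obtain ⟨k, hk⟩ := hx
  have hpg : IsPGroup p (zpowers x) := IsPGroup.of_card (n := k) (by rw [Nat.card_zpowers, hk])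
  obtain ⟨P₀, hP₀⟩ := hpg.exists_le_sylow
  obtain ⟨g, hg⟩ := MulAction.exists_smul_eq G P₀ P
  refine ⟨g, ?_⟩
  have hx0 : x ∈ (P₀ : Subgroup G) := hP₀ (mem_zpowers x)
  have := Subgroup.smul_mem_pointwise_smul x (MulAut.conj g) (P₀ : Subgroup G) hx0
  rw [← Sylow.coe_subgroup_smul, hg] at this
  simp only [MulAut.smul_def, MulAut.conj_apply] at this
  exact this

theorem isPElt_of_mem {p : ℕ} [Fact p.Prime] (P : Sylow p G) {z : G} (hz : z ∈ P) :
    IsPElt p z := by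
  obtain ⟨k, hk⟩ := (IsPGroup.iff_orderOf.mp P.isPGroup') ⟨z, hz⟩
  exact ⟨k, (Subgroup.orderOf_coe (⟨z, hz⟩ : (P : Subgroup G))).trans hk⟩

theorem mem_normalizer_of_sq {H : Subgroup G} {w : G} (hw : w * w = 1)
    (hH : ∀ h ∈ H, w * h * w⁻¹ ∈ H) : w ∈ normalizer (H : Set G) := by
  rw [mem_normalizer_iff]
  intro h
  refine ⟨hH h, fun hh => ?_⟩
  have hwi : w⁻¹ = w := inv_eq_of_mul_eq_one_left hw
  have h1 := hH _ hh
  have e : w * (w * h * w⁻¹) * w⁻¹ = h := by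
    rw [hwi]
    calc w * (w * h * w) * w = (w * w) * h * (w * w) := by group
      _ = h := by rw [hw]; simp
  rw [e] at h1
  exact h1

theorem p_ne_two [Finite G] {p a : ℕ} {Q : Subgroup G} {y : G} (hB : BCtx G p a Q y) : p ≠ 2 := by
  intro h
  have h1 := hB.hpa
  rw [h] at h1
  have h4d : 4 ∣ 2 ^ a := by
    obtain ⟨c, rfl⟩ := Nat.exists_eq_add_of_le hB.ha
    rw [pow_add]
    exact Dvd.intro _ rfl
  omega

theorem step2 [Finite G] (hA2N : A2N.{u}) (hINVN : INVN.{u}) {p a : ℕ} {Q : Subgroup G} {y : G}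
    (hB : BCtx G p a Q y) {x₁ : G} (hxC : x₁ ∈ centralizer (Q : Set G)) (hxp : IsPElt p x₁)
    (hx1 : x₁ ≠ 1) (P : Sylow p G) (hxP : x₁ ∈ P) {w : G} (hw : orderOf w = 2)
    (hwP : w ∈ normalizer ((P : Subgroup G) : Set G))
    (hfix : ∀ z ∈ P, w * z = z * w → z = 1) : False := by
  have hww : w * w = 1 := by
    have := pow_orderOf_eq_one w
    rw [hw, pow_two] at this
    exact this
  have hwi : w⁻¹ = w := inv_eq_of_mul_eq_one_left hww
  haveI := hB.hab P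
  have hcx : w * x₁ * w⁻¹ ∈ (P : Subgroup G) := (mem_normalizer_iff.mp hwP x₁).mp hxP
  have hu : x₁ * (w * x₁ * w⁻¹) = 1 := by
    apply hfix _ ((P : Subgroup G).mul_mem hxP hcx)
    have hcomm : x₁ * (w * x₁ * w⁻¹) = (w * x₁ * w⁻¹) * x₁ :=
      congrArg Subtype.val (mul_comm' (⟨x₁, hxP⟩ : (P : Subgroup G)) ⟨_, hcx⟩)
    rw [hwi] at hcomm ⊢
    have e1 : w * (x₁ * (w * x₁ * w)) = x₁ * w * x₁ := by
      rw [hcomm]
      calc w * (w * x₁ * w * x₁) = (w * w) * x₁ * w * x₁ := by group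
        _ = x₁ * w * x₁ := by rw [hww, one_mul]
    have e2 : x₁ * (w * x₁ * w) * w = x₁ * w * x₁ := by
      calc x₁ * (w * x₁ * w) * w = x₁ * w * x₁ * (w * w) := by group
        _ = x₁ * w * x₁ := by rw [hww, mul_one]
    rw [e1, e2]
  have hinv : w * x₁ * w⁻¹ = x₁⁻¹ := eq_inv_of_mul_eq_one_right hu
  have hwN : w ∈ normalizer ((zpowers x₁ : Subgroup G) : Set G) := by
    apply mem_normalizer_of_sq hww
    intro h hh
    obtain ⟨k, rfl⟩ := mem_zpowers_iff.mp hh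
    have : w * x₁ ^ k * w⁻¹ = (x₁⁻¹) ^ k := by rw [← hinv, conj_zpow]
    rw [this]
    exact zpow_mem (inv_mem (mem_zpowers x₁)) k
  have hwNQ := hA2N G p a Q y hB x₁ hxC hxp hx1 hwN
  have hwQ : w ∈ Q := hINVN G p a Q y hB w hwNQ ⟨1, by rw [hw, pow_one]⟩
  have hcomm2 : w * x₁ = x₁ * w := mem_centralizer_iff.mp hxC w hwQ
  have h3 : x₁⁻¹ = x₁ := by
    rw [← hinv, hcomm2]
    group
  have hx2 : x₁ ^ 2 = 1 := by
    rw [pow_two]
    nth_rewrite 1 [← h3]
    exact inv_mul_cancel x₁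
  have hd : orderOf x₁ ∣ 2 := orderOf_dvd_of_pow_eq_one hx2
  obtain ⟨k, hk⟩ := hxp
  have hcop : Nat.Coprime (p ^ k) 2 :=
    Nat.Coprime.pow_left k ((Nat.coprime_primes hB.hp Nat.prime_two).mpr (p_ne_two hB))
  rw [hk] at hd
  have h1 : p ^ k = 1 := Nat.Coprime.eq_one_of_dvd hcop hd
  rw [h1] at hk
  exact hx1 (orderOf_eq_one_iff.mp hk)

theorem step3 [Finite G] (hA2N : A2N.{u}) (hNCENT : NCENT.{u}) (hCQY : CQY.{u}) {p a : ℕ}
    {Q : Subgroup G} {y : G} (hB : BCtx G p a Q y) (hA : CaseA Q) (P : Sylow p G) {w : G}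
    (hwQ : w ∈ Q) (hw1 : w ≠ 1) (hwP : w ∈ normalizer ((P : Subgroup G) : Set G)) {z : G}
    (hzP : z ∈ P) (hz1 : z ≠ 1) (hwz : w * z = z * w) : False := by
  haveI : Fact p.Prime := ⟨hB.hp⟩
  haveI : Fact (Nat.Prime 2) := ⟨Nat.prime_two⟩
  haveI := hB.hab P
  have hp2 := p_ne_two hB
  have hzN : z ∈ normalizer (Q : Set G) := hA w hwQ hw1 (by
    rw [mem_centralizer_iff]
    intro x hx
    rw [Set.mem_singleton_iff] at hx
    rw [hx]
    exact hwz)
  have hzC : z ∈ centralizer (Q : Set G) := hNCENT G p a Q y hB z hzN w hwQ hw1 hwz.symm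
  have hzp : IsPElt p z := isPElt_of_mem P hzP
  have hPN : ∀ v ∈ P, v ∈ normalizer (Q : Set G) := by
    intro v hv
    apply hA2N G p a Q y hB z hzC hzp hz1
    apply Cfsg.Agent.Lib.Helper91.MixA2N.comm_mem_normalizer
    exact congrArg Subtype.val (mul_comm' (⟨v, hv⟩ : (P : Subgroup G)) ⟨z, hzP⟩)
  have hdisj : Disjoint (P : Subgroup G) Q :=
    IsPGroup.disjoint_of_ne p 2 hp2 _ _ P.isPGroup' (IsPGroup.of_card hB.hQ)
  have hPC : ∀ v ∈ P, v ∈ centralizer (Q : Set G) := by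
    intro v hv
    have hvN := hPN v hv
    have c1 : w * v * w⁻¹ * v⁻¹ ∈ (P : Subgroup G) :=
      (P : Subgroup G).mul_mem ((mem_normalizer_iff.mp hwP v).mp hv) ((P : Subgroup G).inv_mem hv)
    have c2 : w * v * w⁻¹ * v⁻¹ ∈ Q := by
      have h1 : v * w⁻¹ * v⁻¹ ∈ Q := (mem_normalizer_iff.mp hvN w⁻¹).mp (Q.inv_mem hwQ)
      have e : w * v * w⁻¹ * v⁻¹ = w * (v * w⁻¹ * v⁻¹) := by group
      rw [e]
      exact Q.mul_mem hwQ h1
    have c3 : w * v * w⁻¹ * v⁻¹ = 1 := Subgroup.disjoint_def.mp hdisj c1 c2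
    have h5 : w * v * w⁻¹ = v := mul_inv_eq_one.mp c3
    have h6 : w * v = v * w := mul_inv_eq_iff_eq_mul.mp h5
    exact hNCENT G p a Q y hB v hvN w hwQ hw1 h6.symm
  have hyP : y ∈ normalizer ((P : Subgroup G) : Set G) := by
    apply centralizer_le_normalizer
    rw [mem_centralizer_iff]
    intro v hv
    exact hCQY G p a Q y hB v (hPC v hv) (isPElt_of_mem P hv)
  have hyP' : y ∈ (P : Subgroup G) := by
    obtain ⟨k, hk⟩ := hB.hy
    have hpg : IsPGroup p (zpowers y) := IsPGroup.of_card (n := k) (by rw [Nat.card_zpowers, hk])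
    have h1 := hpg.inf_normalizer_sylow P
    have hy1 : y ∈ zpowers y ⊓ normalizer ((P : Subgroup G) : Set G) := ⟨mem_zpowers y, hyP⟩
    have hy2 : y ∈ zpowers y ⊓ (P : Subgroup G) := by
      rw [← h1]
      exact hy1
    exact hy2.2
  have hyC := hPC y hyP'
  obtain ⟨s, hsQ, hs1, hsw⟩ : ∃ s ∈ Q, s ≠ 1 ∧ s ≠ w := by
    by_contra hno
    push Not at hno
    have hsub : (Q : Set G) ⊆ {1, w} := by
      intro s hs
      by_cases h1 : s = 1
      · left; exact h1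
      · right; exact hno s hs h1
    have hc : Nat.card Q ≤ 2 := by
      have h1 : Nat.card Q = (Q : Set G).ncard := Nat.card_coe_set_eq (Q : Set G)
      rw [h1]
      refine (Set.ncard_le_ncard hsub (Set.toFinite _)).trans ?_
      refine (Set.ncard_insert_le _ _).trans ?_
      simp
    rw [hB.hQ] at hc
    have h4 : 4 ≤ 2 ^ a := by
      simpa using Nat.pow_le_pow_right (show 0 < 2 by norm_num) hB.ha
    omega
  obtain ⟨k, hk⟩ := hB.htrans s hsQ hs1 w hwQ hw1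
  have hfix : y ^ k * s * (y ^ k)⁻¹ = s := by
    have hc : s * y = y * s := mem_centralizer_iff.mp hyC s hsQ
    have hc' : Commute (y ^ k) s := Commute.pow_left (show Commute y s from hc.symm) k
    rw [hc'.eq]
    group
  rw [hfix] at hk
  exact hsw hk

theorem main (hA2N : A2N.{u}) (hCONJ : CONJ.{u}) (hINVN : INVN.{u}) (hINVCONJ : INVCONJ.{u})
    (hNCENT : NCENT.{u}) (hCQY : CQY.{u}) : A2a.{u} := by
  intro G _ _ p a Q y hB hA hx P w hw hwP
  obtain ⟨x₀, hx₀C, hx₀p, hx₀1⟩ := hx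
  haveI : Fact p.Prime := ⟨hB.hp⟩
  by_cases hz : ∃ z ∈ P, z ≠ 1 ∧ w * z = z * w
  · obtain ⟨z, hzP, hz1, hwz⟩ := hz
    obtain ⟨g, hg⟩ := hINVCONJ G p a Q y hB w hw
    have hB' := hCONJ G p a Q y hB g⁻¹
    have hA' := caseA_conj hA g⁻¹
    have hwQ' : w ∈ Q.map (MulAut.conj g⁻¹).toMonoidHom := by
      rw [mem_map_conj]
      simpa using hg
    have hw1 : w ≠ 1 := by
      rintro rfl
      simp at hw
    exact step3 hA2N hNCENT hCQY hB' hA' P hwQ' hw1 hwP hzP hz1 hwz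
  · push Not at hz
    obtain ⟨g, hg⟩ := conj_into_sylow hx₀p P
    have hB' := hCONJ G p a Q y hB g
    have hxC' : g * x₀ * g⁻¹ ∈
        centralizer ((Q.map (MulAut.conj g).toMonoidHom : Subgroup G) : Set G) := by
      rw [mem_centralizer_iff]
      intro s hs
      have hs' : g⁻¹ * s * g ∈ Q := (mem_map_conj g s Q).mp hs
      have hc := mem_centralizer_iff.mp hx₀C _ hs'
      have e1 : s * (g * x₀ * g⁻¹) = g * ((g⁻¹ * s * g) * x₀) * g⁻¹ := by group
      have e2 : g * x₀ * g⁻¹ * s = g * (x₀ * (g⁻¹ * s * g)) * g⁻¹ := by group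
      rw [e1, e2, hc]
    have hxp' : IsPElt p (g * x₀ * g⁻¹) := by
      obtain ⟨k, hk⟩ := hx₀p
      exact ⟨k, by
        rw [← hk]
        exact orderOf_injective (MulAut.conj g).toMonoidHom (MulAut.conj g).injective x₀⟩
    have hx1' : g * x₀ * g⁻¹ ≠ 1 := by
      intro h1
      apply hx₀1
      have : x₀ = g⁻¹ * (g * x₀ * g⁻¹) * g := by group
      rw [this, h1]
      group
    exact step2 hA2N hINVN hB' hxC' hxp' hx1' P hg hw hwP (fun z hzP hwz => by
      by_contra h1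
      exact hz z hzP h1 hwz)

end Cfsg.Agent.Lib.Helper91.MixA2a
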