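import Mathlib
import Cfsg.Agent.Lib.Helper68.MixStmt

/-!
# S4017 / SIMPLE (helper91, call by helper68)
-/

set_option autoImplicit false

universe u

namespace Cfsg.Agent.Lib.Helper91.MixSIMPLE

open Cfsg.Agent.Lib.Helper68.MixStmt

theorem dvd_card_of_pgroup_ne_bot {G : Type u} [Group G] [Finite G] {l : ℕ} [Fact l.Prime]
    {A : Subgroup G} (hA : IsPGroup l A) (hA1 : A ≠ ⊥) : l ∣ Nat.card A := by
  obtain ⟨i, hi⟩ := hA.exists_card_eq
  rcases Nat.eq_zero_or_pos i with rfl | hpos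
  · exfalso
    apply hA1
    rw [pow_zero] at hi
    exact Subgroup.eq_bot_of_card_eq A hi
  · rw [hi]
    exact dvd_pow_self l hpos.ne'

theorem card_quot_dvd {G : Type u} [Group G] [Finite G] (X N : Subgroup G) [N.Normal]
    (h : X ⊔ N = ⊤) : Nat.card (G ⧸ N) ∣ Nat.card X := by
  apply Subgroup.card_dvd_of_surjective ((QuotientGroup.mk' N).comp X.subtype)
  intro q
  obtain ⟨g, rfl⟩ := QuotientGroup.mk'_surjective N q
  have hg : g ∈ ((X ⊔ N : Subgroup G) : Set G) := by rw [h]; trivial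
  rw [Subgroup.mul_normal] at hg
  obtain ⟨x, hx, n, hn, rfl⟩ := hg
  refine ⟨⟨x, hx⟩, ?_⟩
  simp only [MonoidHom.comp_apply, Subgroup.subtype_apply, QuotientGroup.mk'_apply]
  rw [QuotientGroup.eq]
  simpa using hn

theorem no_pair {G : Type u} [Group G] [Finite G] {p : ℕ} (hp : p.Prime) (hpG : p ∣ Nat.card G)
    (hE : EvenPQ G p 2) {l₁ l₂ : ℕ} [Fact l₁.Prime] [Fact l₂.Prime] (h1p : l₁ ≠ p)
    (h2p : l₂ ≠ p) (h2 : l₁ = 2 ∨ l₂ = 2) {s : ℕ} (hs : s.Prime) (hsp : s ≠ p) (hs2 : s ≠ 2)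
    (hsl : l₁ = s ∨ l₂ = s) (A B : Subgroup G) [A.Normal] (hAl : IsPGroup l₁ A)
    (hBl : IsPGroup l₂ B) (hA1 : A ≠ ⊥) (hB1 : B ≠ ⊥) : False := by
  have hdA : l₁ ∣ Nat.card (A ⊔ B : Subgroup G) :=
    (dvd_card_of_pgroup_ne_bot hAl hA1).trans (Subgroup.card_dvd_of_le le_sup_left)
  have hdB : l₂ ∣ Nat.card (A ⊔ B : Subgroup G) :=
    (dvd_card_of_pgroup_ne_bot hBl hB1).trans (Subgroup.card_dvd_of_le le_sup_right)
  have h2d : 2 ∣ Nat.card (A ⊔ B : Subgroup G) := by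
    rcases h2 with h | h
    · rw [← h]; exact hdA
    · rw [← h]; exact hdB
  have hsd : s ∣ Nat.card (A ⊔ B : Subgroup G) := by
    rcases hsl with h | h
    · rw [← h]; exact hdA
    · rw [← h]; exact hdB
  have htop : A ⊔ B = ⊤ := by
    by_contra hne
    rcases hE (A ⊔ B) hne h2d s hs hsd with h | h
    · exact hsp h
    · exact hs2 h
  have hq : Nat.card (G ⧸ A) ∣ Nat.card B := card_quot_dvd B A (by rw [sup_comm]; exact htop)
  obtain ⟨i, hi⟩ := hAl.exists_card_eq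
  obtain ⟨j, hj⟩ := hBl.exists_card_eq
  have hcard := Subgroup.card_eq_card_quotient_mul_card_subgroup A
  have hdiv : p ∣ l₂ ^ j * l₁ ^ i := by
    rw [← hj, ← hi]
    rw [hcard] at hpG
    exact hpG.trans (Nat.mul_dvd_mul_right hq _)
  rcases (Nat.Prime.dvd_mul hp).mp hdiv with h | h
  · exact h2p ((Nat.prime_dvd_prime_iff_eq hp Fact.out).mp (hp.dvd_of_dvd_pow h)).symm
  · exact h1p ((Nat.prime_dvd_prime_iff_eq hp Fact.out).mp (hp.dvd_of_dvd_pow h)).symm

theorem frat {G : Type u} [Group G] [Finite G] {p : ℕ} (hE : EvenPQ G p 2) (N₀ : Subgroup G)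
    [N₀.Normal] {l l' : ℕ} [Fact l.Prime] (hlN : l ∣ Nat.card N₀) (hl'N : ¬ l' ∣ Nat.card N₀)
    (hl' : l'.Prime) (hl'G : l' ∣ Nat.card G) (h2 : l = 2 ∨ l' = 2) {s : ℕ} (hs : s.Prime)
    (hsp : s ≠ p) (hs2 : s ≠ 2) (hsl : l = s ∨ l' = s) :
    ∃ A : Subgroup G, A.Normal ∧ IsPGroup l A ∧ A ≠ ⊥ := by
  let S₀ : Sylow l N₀ := default
  have hA1 : (S₀ : Subgroup N₀).map N₀.subtype ≠ ⊥ := by
    rw [Ne, Subgroup.map_eq_bot_iff_of_injective _ N₀.subtype_injective]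
    exact S₀.ne_bot_of_dvd_card hlN
  have hAl : IsPGroup l ((S₀ : Subgroup N₀).map N₀.subtype) := S₀.isPGroup'.map _
  refine ⟨(S₀ : Subgroup N₀).map N₀.subtype, ?_, hAl, hA1⟩
  rw [← Subgroup.normalizer_eq_top_iff]
  by_contra hne
  have hsup : Subgroup.normalizer (((S₀ : Subgroup N₀).map N₀.subtype : Subgroup G) : Set G) ⊔ N₀
      = ⊤ := Sylow.normalizer_sup_eq_top S₀
  have hd1 : l ∣ Nat.card (Subgroup.normalizer
      (((S₀ : Subgroup N₀).map N₀.subtype : Subgroup G) : Set G)) :=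
    (dvd_card_of_pgroup_ne_bot hAl hA1).trans (Subgroup.card_dvd_of_le Subgroup.le_normalizer)
  have hd2 : l' ∣ Nat.card (Subgroup.normalizer
      (((S₀ : Subgroup N₀).map N₀.subtype : Subgroup G) : Set G)) := by
    have hq := card_quot_dvd _ N₀ hsup
    have hcard := Subgroup.card_eq_card_quotient_mul_card_subgroup N₀
    rw [hcard] at hl'G
    rcases (Nat.Prime.dvd_mul hl').mp hl'G with h | h
    · exact h.trans hq
    · exact absurd h hl'N
  have h2d : 2 ∣ Nat.card (Subgroup.normalizer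
      (((S₀ : Subgroup N₀).map N₀.subtype : Subgroup G) : Set G)) := by
    rcases h2 with h | h
    · rw [← h]; exact hd1
    · rw [← h]; exact hd2
  have hsd : s ∣ Nat.card (Subgroup.normalizer
      (((S₀ : Subgroup N₀).map N₀.subtype : Subgroup G) : Set G)) := by
    rcases hsl with h | h
    · rw [← h]; exact hd1
    · rw [← h]; exact hd2
  rcases hE _ hne h2d s hs hsd with h | h
  · exact hsp h
  · exact hs2 h

theorem main : SIMPLE.{u} := by
  intro G _ _ p a Q y hB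
  have hp := hB.hp
  have h4 : 4 ≤ 2 ^ a := by
    have := Nat.pow_le_pow_right (show 0 < 2 by norm_num) hB.ha
    simpa using this
  have hp2 : p ≠ 2 := by
    intro h
    have h1 := hB.hpa
    rw [h] at h1
    have h4d : 4 ∣ 2 ^ a := by
      obtain ⟨c, rfl⟩ := Nat.exists_eq_add_of_le hB.ha
      rw [pow_add]
      exact Dvd.intro _ rfl
    omega
  haveI hnt : Nontrivial G := by
    rw [← Finite.one_lt_card_iff_nontrivial]
    exact lt_of_lt_of_le hp.one_lt (Nat.le_of_dvd Nat.card_pos hB.hpG)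
  refine @IsSimpleGroup.mk G _ hnt (fun N₀ hN₀ => ?_)
  by_contra hcon
  push Not at hcon
  obtain ⟨hbot, htop⟩ := hcon
  have hnot := hB.hnot
  unfold PQNum at hnot
  push Not at hnot
  obtain ⟨r, hr, hrG, hrp, hr2⟩ := hnot
  haveI : Fact (Nat.Prime 2) := ⟨Nat.prime_two⟩
  haveI : Fact r.Prime := ⟨hr⟩
  haveI := hN₀
  by_cases hev : 2 ∣ Nat.card N₀
  · have hrN : ¬ r ∣ Nat.card N₀ := by
      intro h
      rcases hB.hE N₀ htop hev r hr h with h | h
      · exact hrp h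
      · exact hr2 h
    obtain ⟨A, hAn, hAl, hA1⟩ := frat hB.hE N₀ (l := 2) (l' := r) hev hrN hr hrG (Or.inl rfl)
      hr hrp hr2 (Or.inr rfl)
    haveI := hAn
    let R : Sylow r G := default
    exact no_pair hp hB.hpG hB.hE (l₁ := 2) (l₂ := r) (Ne.symm hp2) hrp (Or.inl rfl) hr hrp hr2
      (Or.inr rfl) A R hAl R.isPGroup' hA1 (R.ne_bot_of_dvd_card hrG)
  · have hex : ∃ s, s.Prime ∧ s ∣ Nat.card N₀ ∧ s ≠ p := by
      by_contra hno
      push Not at hno
      have hc : Nat.card N₀ = p ^ (Nat.card N₀).primeFactorsList.length :=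
        Nat.eq_prime_pow_of_unique_prime_dvd Nat.card_pos.ne' (fun {d} hd hdd => hno d hd hdd)
      exact hbot (hB.hOp N₀ hN₀ (IsPGroup.of_card hc))
    obtain ⟨s, hs, hsN, hsp⟩ := hex
    have hs2 : s ≠ 2 := by
      rintro rfl
      exact hev hsN
    haveI : Fact s.Prime := ⟨hs⟩
    have h2G : 2 ∣ Nat.card G := by
      have h1 := Subgroup.card_subgroup_dvd_card Q
      rw [hB.hQ] at h1
      exact (dvd_pow_self 2 (by have := hB.ha; omega)).trans h1
    obtain ⟨A, hAn, hAl, hA1⟩ := frat hB.hE N₀ (l := s) (l' := 2) hsN hev Nat.prime_two h2G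
      (Or.inr rfl) hs hsp hs2 (Or.inl rfl)
    haveI := hAn
    have hQ1 : Q ≠ ⊥ := by
      intro h
      have h1 := hB.hQ
      rw [h, Subgroup.card_bot] at h1
      omega
    exact no_pair hp hB.hpG hB.hE (l₁ := s) (l₂ := 2) hsp (Ne.symm hp2) (Or.inr rfl) hs hsp hs2
      (Or.inl rfl) A Q hAl (IsPGroup.of_card hB.hQ) hA1 hQ1

end Cfsg.Agent.Lib.Helper91.MixSIMPLE
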