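import Mathlib
import Cfsg.Agent.Lib.Lead.OrdTypeStmt

/-!
# S3998 / CNTQUOT: for a normal `p`-subgroup `N` and `t ≤ p`, `cnt X t = |N| * cnt (X ⧸ N) t`.
-/

set_option autoImplicit false

namespace Cfsg.Agent.Lib.Helper91.OTCNTQUOT

open Cfsg.Agent.Lib.Lead.OrdTypeStmt

universe u

theorem rough_eq_preimage (X : Type u) [Group X] [Finite X] (p : ℕ) [Fact p.Prime]
    (N : Subgroup X) [N.Normal] (hN : IsPGroup p N) (t : ℕ) (ht : t ≤ p) :
    rough X t = (QuotientGroup.mk : X → X ⧸ N) ⁻¹' rough (X ⧸ N) t := by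
  ext x
  constructor
  · intro hx q hq hqd
    apply hx q hq
    have h1 : orderOf ((QuotientGroup.mk' N) x) ∣ orderOf x := orderOf_map_dvd (QuotientGroup.mk' N) x
    exact hqd.trans h1
  · intro hx q hq hqd
    have hx' : ∀ q : ℕ, q.Prime → q ∣ orderOf (QuotientGroup.mk x : X ⧸ N) → t ≤ q := hx
    obtain ⟨k, hk⟩ : ∃ k, k = orderOf (QuotientGroup.mk x : X ⧸ N) := ⟨_, rfl⟩
    have hxk : x ^ k ∈ N := by
      rw [← QuotientGroup.eq_one_iff, QuotientGroup.mk_pow, hk, pow_orderOf_eq_one]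
    obtain ⟨j, hj⟩ := hN ⟨x ^ k, hxk⟩
    have hj' : (x ^ k) ^ p ^ j = 1 := by
      have := congrArg (Subtype.val) hj
      simpa using this
    have hdvd : orderOf x ∣ k * p ^ j := by
      apply orderOf_dvd_of_pow_eq_one
      rw [pow_mul]
      exact hj'
    have hq2 : q ∣ k * p ^ j := hqd.trans hdvd
    rcases (Nat.Prime.dvd_mul hq).mp hq2 with h | h
    · rw [hk] at h
      exact hx' q hq h
    · have h3 : q ∣ p := hq.dvd_of_dvd_pow h
      have h4 : q = p := (Nat.prime_dvd_prime_iff_eq hq (Fact.out)).mp h3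
      rw [h4]
      exact ht

theorem main : CntQuot.{u} := by
  intro X _ _ p _ N _ hN t ht
  unfold cnt
  rw [rough_eq_preimage X p N hN t ht]
  exact QuotientGroup.card_preimage_mk N (rough (X ⧸ N) t)

end Cfsg.Agent.Lib.Helper91.OTCNTQUOT
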