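import Mathlib
import Cfsg.Agent.Lib.Helper18.ReeMultStmt

/-!
# S2113 / FIN2 (helper91, second seat; call by helper18)
-/

set_option autoImplicit false

namespace Cfsg.Agent.Lib.Helper91.ReeMultFIN2

open scoped commutatorElement

open Cfsg.Agent.Lib.Helper18.ReeMultStmt

universe u w

open scoped IsMulCommutative in
theorem main (hP : P2FORM.{u, w}) : FIN2.{u, w} := by
  intro Γ _ G _ σ hs hc S n hS8 hexp hn7 hnS hfix z hz hzc
  classical
  have hcomm : ∀ x ∈ S, ∀ y ∈ S, x * y = y * x := by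
    intro x hx y hy
    have h1 := hexp (x * y) (S.mul_mem hx hy)
    have hxi : x⁻¹ = x := inv_eq_of_mul_eq_one_left (hexp x hx)
    have hyi : y⁻¹ = y := inv_eq_of_mul_eq_one_left (hexp y hy)
    have h3 : (x * y)⁻¹ = x * y := inv_eq_of_mul_eq_one_left h1
    rw [← h3, mul_inv_rev, hxi, hyi]
  let B : G → G → ↥(Subgroup.center Γ) := fun x y =>
    if h : x * y = y * x then ⟨cm σ hs x y, hc (cm_mem_ker σ hs h)⟩ else 1
  have hB : ∀ x ∈ S, ∀ y ∈ S, ((B x y : ↥(Subgroup.center Γ)) : Γ) = cm σ hs x y := by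
    intro x hx y hy
    simp only [B, dif_pos (hcomm x hx y hy)]
  have hB1 : ∀ x ∈ S, ∀ y ∈ S, B x y = 1 := by
    apply hP G S ↥(Subgroup.center Γ) B n hS8 hexp hn7 hnS hfix
    · intro x hx x' hx' y hy
      apply Subtype.ext
      rw [Subgroup.coe_mul, hB _ (S.mul_mem hx hx') _ hy, hB x hx y hy, hB x' hx' y hy]
      exact cm_mul_left_c σ hs hc (hcomm x' hx' y hy)
    · intro x hx y hy y' hy'
      apply Subtype.ext
      rw [Subgroup.coe_mul, hB _ hx _ (S.mul_mem hy hy'), hB x hx y hy, hB x hx y' hy']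
      exact cm_mul_right_c σ hs hc (hcomm x hx y' hy')
    · intro x hx
      apply Subtype.ext
      rw [hB x hx x hx, Subgroup.coe_one]
      unfold cm
      exact commutatorElement_self _
    · intro x hx y hy
      apply Subtype.ext
      rw [hB _ (hnS x hx) _ (hnS y hy), hB x hx y hy]
      have h1 := conj_cm σ hs hc (sec σ hs n) x y
      rw [sec_spec] at h1
      rw [← h1, cm_central σ hs hc (hcomm x hx y hy), mul_inv_cancel_right]
  have hcm1 : ∀ x ∈ S, ∀ y ∈ S, cm σ hs x y = 1 := by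
    intro x hx y hy
    rw [← hB x hx y hy, hB1 x hx y hy, Subgroup.coe_one]
  have hle : S.comap σ ≤ Subgroup.centralizer ((S.comap σ : Subgroup Γ) : Set Γ) := by
    intro g hg
    rw [Subgroup.mem_centralizer_iff]
    intro h hh
    exact comm_of_cm σ hs hc h g (hcm1 _ hh _ hg)
  have hbot : ⁅S.comap σ, S.comap σ⁆ = ⊥ :=
    Subgroup.commutator_eq_bot_iff_le_centralizer.mpr hle
  rw [hbot] at hzc
  exact Subgroup.mem_bot.mp hzc

end Cfsg.Agent.Lib.Helper91.ReeMultFIN2
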