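import Mathlib
import Cfsg.Agent.Lib.Helper45.S8Stmt

set_option autoImplicit false

namespace Cfsg.Agent.Lib.Helper91.S8ARITH

open Cfsg.Agent.Lib.Helper45.S8Stmt Cfsg.Agent.Lib.Helper45.EOStmt

/-- allowed `DA` for the `i`-th number of `LL q` -/
def TA : ℕ → Finset ℕ
  | 0 => ∅ | 1 => {1, 2, 4} | 2 => {1, 3} | 3 => {1} | 4 => {1, 3} | 5 => ∅ | 6 => {1}
  | 7 => ∅ | 8 => {1, 2} | 9 => ∅ | 10 => {1} | _ => ∅

/-- allowed `DB` for the `i`-th number of `LL q` -/
def TB : ℕ → Finset ℕ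
  | 0 => {4} | 1 => {1, 2} | 2 => {1} | 3 => {1, 3} | 4 => ∅ | 5 => {1, 3} | 6 => {2}
  | 7 => {1, 2} | 8 => {1} | 9 => {2} | 10 => ∅ | _ => {1}

/-- allowed `c` for the `i`-th number of `LL q` -/
def TC : ℕ → ℕ
  | 0 => 0 | 1 => 0 | 2 => 0 | 3 => 0 | 4 => 1 | 5 => 1 | 6 => 1 | 7 => 1 | 8 => 2 | 9 => 2
  | _ => 3

theorem comb : ∀ DA ∈ (Finset.Icc 1 4).powerset, ∀ DB ∈ (Finset.Icc 1 4).powerset,
    ∀ c ∈ Finset.range 4, DA.sum id + DB.sum id + c ≤ 4 →
    ∃ i ∈ Finset.range 12, DA ⊆ TA i ∧ DB ⊆ TB i ∧ c ≤ TC i := by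
  decide +kernel

theorem odd_lcm (D : Finset ℕ) (g : ℕ → ℕ) (h : ∀ a ∈ D, Nat.Coprime (g a) 2) :
    Nat.Coprime (D.lcm g) 2 := by
  classical
  induction D using Finset.induction_on with
  | empty => simp
  | insert a s ha ih =>
    rw [Finset.lcm_insert]
    have h1 := h a (Finset.mem_insert_self a s)
    have h2 := ih (fun b hb => h b (Finset.mem_insert_of_mem hb))
    exact Nat.Coprime.coprime_dvd_left (Nat.lcm_dvd_mul _ _) (Nat.Coprime.mul_left h1 h2)

theorem key (q : ℕ) (hqe : Even q) (hq2 : 2 ≤ q) (DA DB : Finset ℕ) (c : ℕ)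
    (hA : ∀ a ∈ DA, 1 ≤ a) (hB : ∀ b ∈ DB, 1 ≤ b) (N : ℕ)
    (h1 : ∀ a ∈ DA, q ^ a - 1 ∣ N) (h2 : ∀ b ∈ DB, q ^ b + 1 ∣ N) (h3 : 2 ^ c ∣ N) :
    Nat.lcm (SA q DA) (SB q DB) * 2 ^ c ∣ N := by
  apply Nat.Coprime.mul_dvd_of_dvd_of_dvd
  · apply Nat.Coprime.pow_right
    have hSA : Nat.Coprime (SA q DA) 2 := by
      apply odd_lcm
      intro a ha
      rw [Nat.coprime_two_right]
      have hev : Even (q ^ a) := (Nat.even_pow.mpr ⟨hqe, by have := hA a ha; omega⟩)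
      exact Nat.Even.sub_odd (Nat.one_le_pow _ _ (by omega)) hev odd_one
    have hSB : Nat.Coprime (SB q DB) 2 := by
      apply odd_lcm
      intro b hb
      rw [Nat.coprime_two_right]
      have hev : Even (q ^ b) := (Nat.even_pow.mpr ⟨hqe, by have := hB b hb; omega⟩)
      exact hev.add_one
    exact Nat.Coprime.coprime_dvd_left (Nat.lcm_dvd_mul _ _) (Nat.Coprime.mul_left hSA hSB)
  · exact Nat.lcm_dvd (Finset.lcm_dvd h1) (Finset.lcm_dvd h2)
  · exact h3

theorem main : Cfsg.Agent.Lib.Helper45.S8Stmt.Arith := by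
  intro q f hf hq DA DB c hA hB hsum hc
  have hDA : DA ∈ (Finset.Icc 1 4).powerset := by
    rw [Finset.mem_powerset]
    intro a ha
    rw [Finset.mem_Icc]
    refine ⟨hA a ha, ?_⟩
    have h5 : a ≤ DA.sum id := Finset.single_le_sum (f := id) (fun i _ => Nat.zero_le _) ha
    omega
  have hDB : DB ∈ (Finset.Icc 1 4).powerset := by
    rw [Finset.mem_powerset]
    intro a ha
    rw [Finset.mem_Icc]
    refine ⟨hB a ha, ?_⟩
    have h5 : a ≤ DB.sum id := Finset.single_le_sum (f := id) (fun i _ => Nat.zero_le _) ha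
    omega
  obtain ⟨i, hi, hsA, hsB, hcT⟩ :=
    comb DA hDA DB hDB c (Finset.mem_range.mpr (by omega)) hsum
  rw [Finset.mem_range] at hi
  have hqe : Even q := by
    rw [hq]
    exact (Nat.even_pow.mpr ⟨even_two, by omega⟩)
  have hq2 : 2 ≤ q := by
    rw [hq]
    calc 2 = 2 ^ 1 := by norm_num
      _ ≤ 2 ^ f := Nat.pow_le_pow_right (by norm_num) hf
  -- closing helper
  have fin : ∀ N : ℕ, N ∈ LL q → (∀ a ∈ TA i, q ^ a - 1 ∣ N) → (∀ b ∈ TB i, q ^ b + 1 ∣ N) →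
      2 ^ TC i ∣ N → ∃ N ∈ LL q, Nat.lcm (SA q DA) (SB q DB) * 2 ^ c ∣ N := by
    intro N hN FA FB h2
    exact ⟨N, hN, key q hqe hq2 DA DB c hA hB N (fun a ha => FA a (hsA ha))
      (fun b hb => FB b (hsB hb)) ((pow_dvd_pow 2 hcT).trans h2)⟩
  -- basic divisibilities
  have e1 : q ^ 1 = q := pow_one q
  have a12 : q ^ 1 - 1 ∣ q ^ 2 - 1 := Nat.pow_sub_one_dvd_pow_sub_one q (by norm_num)
  have a13 : q ^ 1 - 1 ∣ q ^ 3 - 1 := Nat.pow_sub_one_dvd_pow_sub_one q (by norm_num)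
  have b12 : q ^ 1 + 1 ∣ q ^ 2 - 1 := by
    have h : q ^ 2 - 1 = (q - 1) * (q ^ 1 + 1) := by
      rw [e1]
      obtain ⟨k, rfl⟩ : ∃ k, q = k + 2 := ⟨q - 2, by omega⟩
      have : (k + 2) ^ 2 = (k + 1) * (k + 2 + 1) + 1 := by ring
      rw [this]
      simp
    rw [h]
    exact dvd_mul_left _ _
  have b13 : q ^ 1 + 1 ∣ q ^ 3 + 1 := by
    have h := Odd.nat_add_dvd_pow_add_pow q 1 (show Odd 3 by decide)
    rw [one_pow] at h
    rw [e1]
    exact h
  have cop22 : Nat.Coprime (q ^ 2 - 1) (q ^ 2 + 1) := by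
    have hev : Even (q ^ 2) := (Nat.even_pow.mpr ⟨hqe, by norm_num⟩)
    have hodd : Odd (q ^ 2 - 1) := Nat.Even.sub_odd (Nat.one_le_pow _ _ (by omega)) hev odd_one
    have h1 : 1 ≤ q ^ 2 := Nat.one_le_pow _ _ (by omega)
    have hg : Nat.gcd (q ^ 2 - 1) (q ^ 2 + 1) ∣ 2 := by
      have hd1 := Nat.gcd_dvd_left (q ^ 2 - 1) (q ^ 2 + 1)
      have hd2 := Nat.gcd_dvd_right (q ^ 2 - 1) (q ^ 2 + 1)
      have h6 : q ^ 2 + 1 - (q ^ 2 - 1) = 2 := by omega
      have h7 := Nat.dvd_sub hd2 hd1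
      rwa [h6] at h7
    have hg2 : Nat.Coprime (Nat.gcd (q ^ 2 - 1) (q ^ 2 + 1)) 2 :=
      Nat.Coprime.coprime_dvd_left (Nat.gcd_dvd_left _ _) (Nat.coprime_two_right.mpr hodd)
    exact Nat.Coprime.eq_one_of_dvd hg2 hg
  have a4 : q ^ 4 - 1 ∣ Nat.lcm (q ^ 2 - 1) (q ^ 2 + 1) := by
    rw [cop22.lcm_eq_mul]
    have h1 : 1 ≤ q ^ 2 := Nat.one_le_pow _ _ (by omega)
    have : q ^ 4 - 1 = (q ^ 2 - 1) * (q ^ 2 + 1) := by
      obtain ⟨k, hk⟩ : ∃ k, q ^ 2 = k + 1 := ⟨q ^ 2 - 1, by omega⟩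
      have h4 : q ^ 4 = (q ^ 2) ^ 2 := by ring
      rw [h4, hk]
      have : (k + 1) ^ 2 = k * (k + 1 + 1) + 1 := by ring
      rw [this]
      simp
    rw [this]
  have cop11 : Nat.Coprime (q - 1) (q + 1) := by
    have hodd : Odd (q - 1) := Nat.Even.sub_odd (by omega) hqe odd_one
    have hg : Nat.gcd (q - 1) (q + 1) ∣ 2 := by
      have hd1 := Nat.gcd_dvd_left (q - 1) (q + 1)
      have hd2 := Nat.gcd_dvd_right (q - 1) (q + 1)
      have h6 : q + 1 - (q - 1) = 2 := by omega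
      have h7 := Nat.dvd_sub hd2 hd1
      rwa [h6] at h7
    have hg2 : Nat.Coprime (Nat.gcd (q - 1) (q + 1)) 2 :=
      Nat.Coprime.coprime_dvd_left (Nat.gcd_dvd_left _ _) (Nat.coprime_two_right.mpr hodd)
    exact Nat.Coprime.eq_one_of_dvd hg2 hg
  have a2' : q ^ 2 - 1 ∣ Nat.lcm (q - 1) (q + 1) := by
    rw [cop11.lcm_eq_mul]
    have : q ^ 2 - 1 = (q - 1) * (q + 1) := by
      obtain ⟨k, rfl⟩ : ∃ k, q = k + 2 := ⟨q - 2, by omega⟩
      have : (k + 2) ^ 2 = (k + 1) * (k + 2 + 1) + 1 := by ring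
      rw [this]
      simp
    rw [this]
  interval_cases i
  · -- q^4 + 1
    refine fin (q ^ 4 + 1) (by simp [LL]) ?_ ?_ ?_
    · intro a ha; simp [TA] at ha
    · intro b hb
      simp only [TB, Finset.mem_singleton] at hb
      subst hb
      exact dvd_refl _
    · simp [TC]
  · -- lcm (q^2-1) (q^2+1)
    refine fin (Nat.lcm (q ^ 2 - 1) (q ^ 2 + 1)) (by simp [LL]) ?_ ?_ ?_
    · intro a ha
      simp only [TA, Finset.mem_insert, Finset.mem_singleton] at ha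
      rcases ha with rfl | rfl | rfl
      · exact a12.trans (Nat.dvd_lcm_left _ _)
      · exact Nat.dvd_lcm_left _ _
      · exact a4
    · intro b hb
      simp only [TB, Finset.mem_insert, Finset.mem_singleton] at hb
      rcases hb with rfl | rfl
      · exact b12.trans (Nat.dvd_lcm_left _ _)
      · exact Nat.dvd_lcm_right _ _
    · simp [TC]
  · -- lcm (q^3-1) (q+1)
    refine fin (Nat.lcm (q ^ 3 - 1) (q + 1)) (by simp [LL]) ?_ ?_ ?_
    · intro a ha
      simp only [TA, Finset.mem_insert, Finset.mem_singleton] at ha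
      rcases ha with rfl | rfl
      · exact a13.trans (Nat.dvd_lcm_left _ _)
      · exact Nat.dvd_lcm_left _ _
    · intro b hb
      simp only [TB, Finset.mem_singleton] at hb
      subst hb
      rw [e1]
      exact Nat.dvd_lcm_right _ _
    · simp [TC]
  · -- lcm (q-1) (q^3+1)
    refine fin (Nat.lcm (q - 1) (q ^ 3 + 1)) (by simp [LL]) ?_ ?_ ?_
    · intro a ha
      simp only [TA, Finset.mem_singleton] at ha
      subst ha
      rw [e1]
      exact Nat.dvd_lcm_left _ _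
    · intro b hb
      simp only [TB, Finset.mem_insert, Finset.mem_singleton] at hb
      rcases hb with rfl | rfl
      · exact b13.trans (Nat.dvd_lcm_right _ _)
      · exact Nat.dvd_lcm_right _ _
    · simp [TC]
  · -- lcm (q^3-1) 2
    refine fin (Nat.lcm (q ^ 3 - 1) 2) (by simp [LL]) ?_ ?_ ?_
    · intro a ha
      simp only [TA, Finset.mem_insert, Finset.mem_singleton] at ha
      rcases ha with rfl | rfl
      · exact a13.trans (Nat.dvd_lcm_left _ _)
      · exact Nat.dvd_lcm_left _ _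
    · intro b hb; simp [TB] at hb
    · show 2 ^ 1 ∣ _
      rw [pow_one]
      exact Nat.dvd_lcm_right _ _
  · -- lcm 2 (q^3+1)
    refine fin (Nat.lcm 2 (q ^ 3 + 1)) (by simp [LL]) ?_ ?_ ?_
    · intro a ha; simp [TA] at ha
    · intro b hb
      simp only [TB, Finset.mem_insert, Finset.mem_singleton] at hb
      rcases hb with rfl | rfl
      · exact b13.trans (Nat.dvd_lcm_right _ _)
      · exact Nat.dvd_lcm_right _ _
    · show 2 ^ 1 ∣ _
      rw [pow_one]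
      exact Nat.dvd_lcm_left _ _
  · -- lcm (lcm (q-1) 2) (q^2+1)
    refine fin (Nat.lcm (Nat.lcm (q - 1) 2) (q ^ 2 + 1)) (by simp [LL]) ?_ ?_ ?_
    · intro a ha
      simp only [TA, Finset.mem_singleton] at ha
      subst ha
      rw [e1]
      exact (Nat.dvd_lcm_left _ _).trans (Nat.dvd_lcm_left _ _)
    · intro b hb
      simp only [TB, Finset.mem_singleton] at hb
      subst hb
      exact Nat.dvd_lcm_right _ _
    · show 2 ^ 1 ∣ _
      rw [pow_one]
      exact (Nat.dvd_lcm_right _ _).trans (Nat.dvd_lcm_left _ _)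
  · -- lcm (lcm (q+1) 2) (q^2+1)
    refine fin (Nat.lcm (Nat.lcm (q + 1) 2) (q ^ 2 + 1)) (by simp [LL]) ?_ ?_ ?_
    · intro a ha; simp [TA] at ha
    · intro b hb
      simp only [TB, Finset.mem_insert, Finset.mem_singleton] at hb
      rcases hb with rfl | rfl
      · rw [e1]
        exact (Nat.dvd_lcm_left _ _).trans (Nat.dvd_lcm_left _ _)
      · exact Nat.dvd_lcm_right _ _
    · show 2 ^ 1 ∣ _
      rw [pow_one]
      exact (Nat.dvd_lcm_right _ _).trans (Nat.dvd_lcm_left _ _)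
  · -- lcm (lcm (q-1) 4) (q+1)
    refine fin (Nat.lcm (Nat.lcm (q - 1) 4) (q + 1)) (by simp [LL]) ?_ ?_ ?_
    · intro a ha
      simp only [TA, Finset.mem_insert, Finset.mem_singleton] at ha
      rcases ha with rfl | rfl
      · rw [e1]
        exact (Nat.dvd_lcm_left _ _).trans (Nat.dvd_lcm_left _ _)
      · refine a2'.trans (Nat.lcm_dvd ?_ ?_)
        · exact (Nat.dvd_lcm_left _ _).trans (Nat.dvd_lcm_left _ _)
        · exact Nat.dvd_lcm_right _ _
    · intro b hb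
      simp only [TB, Finset.mem_singleton] at hb
      subst hb
      rw [e1]
      exact Nat.dvd_lcm_right _ _
    · show 2 ^ 2 ∣ _
      exact (Nat.dvd_lcm_right (q - 1) 4).trans (Nat.dvd_lcm_left _ _)
  · -- lcm 4 (q^2+1)
    refine fin (Nat.lcm 4 (q ^ 2 + 1)) (by simp [LL]) ?_ ?_ ?_
    · intro a ha; simp [TA] at ha
    · intro b hb
      simp only [TB, Finset.mem_singleton] at hb
      subst hb
      exact Nat.dvd_lcm_right _ _
    · show 2 ^ 2 ∣ _
      exact Nat.dvd_lcm_left 4 _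
  · -- lcm (q-1) 8
    refine fin (Nat.lcm (q - 1) 8) (by simp [LL]) ?_ ?_ ?_
    · intro a ha
      simp only [TA, Finset.mem_singleton] at ha
      subst ha
      rw [e1]
      exact Nat.dvd_lcm_left _ _
    · intro b hb; simp [TB] at hb
    · show 2 ^ 3 ∣ _
      exact Nat.dvd_lcm_right _ 8
  · -- lcm 8 (q+1)
    refine fin (Nat.lcm 8 (q + 1)) (by simp [LL]) ?_ ?_ ?_
    · intro a ha; simp [TA] at ha
    · intro b hb
      simp only [TB, Finset.mem_singleton] at hb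
      subst hb
      rw [e1]
      exact Nat.dvd_lcm_right _ _
    · show 2 ^ 3 ∣ _
      exact Nat.dvd_lcm_left 8 _

end Cfsg.Agent.Lib.Helper91.S8ARITH
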