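import Mathlib
import Cfsg.Agent.Lib.Helper45.S8Stmt
import Cfsg.Agent.Lib.Helper91.S8LINORD

set_option autoImplicit false

namespace Cfsg.Agent.Lib.Helper91.S8P2

open Cfsg.Agent.Lib.Helper45.S8Stmt
open Matrix

universe u

theorem main : Cfsg.Agent.Lib.Helper45.S8Stmt.P2.{u} := by
  intro F _
  let X : (Fin 1 ⊕ Fin 1 → F) ≃ₗ[F] (Fin 1 ⊕ Fin 1 → F) :=
    LinearEquiv.funCongrLeft F F (Equiv.sumComm (Fin 1) (Fin 1))
  have hXa : ∀ (v : Fin 1 ⊕ Fin 1 → F) (j : Fin 1 ⊕ Fin 1),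
      X v j = v (Equiv.sumComm (Fin 1) (Fin 1) j) := fun v j => rfl
  have hiso : ∀ v, Cfsg.quadFormPlus 1 F (X v) = Cfsg.quadFormPlus 1 F v := by
    intro v
    unfold Cfsg.quadFormPlus
    apply Finset.sum_congr rfl
    intro i _
    rw [hXa, hXa]
    simp only [Equiv.sumComm_apply, Sum.swap_inl, Sum.swap_inr]
    exact mul_comm _ _
  have h2 : X ^ 2 = 1 := by
    apply LinearEquiv.ext
    intro v
    funext j
    rw [pow_two, LinearEquiv.mul_apply, hXa, hXa]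
    simp
  have h1 : X ≠ 1 := by
    intro h
    have h3 := congrArg (fun Y : (Fin 1 ⊕ Fin 1 → F) ≃ₗ[F] (Fin 1 ⊕ Fin 1 → F) =>
      Y (Pi.single (Sum.inl 0) 1) (Sum.inl 0)) h
    simp only [hXa, LinearEquiv.coe_one, id_eq, Equiv.sumComm_apply, Sum.swap_inl,
      Pi.single_eq_same] at h3
    rw [Pi.single_apply] at h3
    simp at h3
  have ho : orderOf X = 2 := orderOf_eq_prime h2 h1
  have := Cfsg.Agent.Lib.Helper91.S8LINORD.main F (Fin 1 ⊕ Fin 1) (Cfsg.quadFormPlus 1 F) X hiso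
  rw [ho] at this
  exact this

end Cfsg.Agent.Lib.Helper91.S8P2
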