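import Mathlib
import Cfsg.Agent.Lib.Helper45.S8Stmt
import Cfsg.Agent.Lib.Helper91.S8LINORD

set_option autoImplicit false

namespace Cfsg.Agent.Lib.Helper91.S8P4

open Cfsg.Agent.Lib.Helper45.S8Stmt
open Matrix

universe u

/-- the 4-cycle `x₁ → y₂ → y₁ → x₂ → x₁` of the coordinates -/
def sig : Fin 2 ⊕ Fin 2 → Fin 2 ⊕ Fin 2
  | Sum.inl 0 => Sum.inr 1
  | Sum.inl 1 => Sum.inl 0
  | Sum.inr 0 => Sum.inl 1
  | Sum.inr 1 => Sum.inr 0

theorem sig4 : ∀ j, sig (sig (sig (sig j))) = j := by decide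

def sigE : Equiv.Perm (Fin 2 ⊕ Fin 2) where
  toFun := sig
  invFun := fun j => sig (sig (sig j))
  left_inv := sig4
  right_inv := sig4

theorem main : Cfsg.Agent.Lib.Helper45.S8Stmt.P4.{u} := by
  intro F _
  let X : (Fin 2 ⊕ Fin 2 → F) ≃ₗ[F] (Fin 2 ⊕ Fin 2 → F) :=
    LinearEquiv.funCongrLeft F F sigE
  have hXa : ∀ (v : Fin 2 ⊕ Fin 2 → F) (j : Fin 2 ⊕ Fin 2), X v j = v (sig j) :=
    fun v j => rfl
  have hiso : ∀ v, Cfsg.quadFormPlus 2 F (X v) = Cfsg.quadFormPlus 2 F v := by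
    intro v
    unfold Cfsg.quadFormPlus
    rw [Fin.sum_univ_two, Fin.sum_univ_two, hXa, hXa, hXa, hXa]
    show v (Sum.inr 1) * v (Sum.inl 1) + v (Sum.inl 0) * v (Sum.inr 0) = _
    ring
  have h4 : X ^ (2 ^ (1 + 1)) = 1 := by
    apply LinearEquiv.ext
    intro v
    funext j
    show (X ^ 4) v j = v j
    have e4 : X ^ 4 = X * X * X * X := by
      rw [pow_succ, pow_succ, pow_succ, pow_one]
    rw [e4, LinearEquiv.mul_apply, LinearEquiv.mul_apply, LinearEquiv.mul_apply, hXa, hXa, hXa,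
      hXa, sig4]
  have h2 : ¬ X ^ (2 ^ 1) = 1 := by
    intro h
    have h3 := congrArg (fun Y : (Fin 2 ⊕ Fin 2 → F) ≃ₗ[F] (Fin 2 ⊕ Fin 2 → F) =>
      Y (Pi.single (Sum.inl 0) 1) (Sum.inl 0)) h
    have e2 : X ^ (2 ^ 1) = X * X := by rw [pow_one, pow_two]
    rw [e2] at h3
    simp only [LinearEquiv.mul_apply, hXa, LinearEquiv.coe_one, id_eq, Pi.single_eq_same] at h3
    have e3 : sig (sig (Sum.inl 0)) = Sum.inr 0 := by decide
    rw [e3, Pi.single_apply] at h3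
    simp at h3
  have ho : orderOf X = 2 ^ (1 + 1) := orderOf_eq_prime_pow h2 h4
  have := Cfsg.Agent.Lib.Helper91.S8LINORD.main F (Fin 2 ⊕ Fin 2) (Cfsg.quadFormPlus 2 F) X hiso
  rw [ho] at this
  exact this

end Cfsg.Agent.Lib.Helper91.S8P4
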