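import Mathlib
import Cfsg.Agent.Lib.Helper40.SFStmt

/-!
# S5664 / TVEVEN1 (helper91, second seat; call by helper40)

Characteristic two, `[L : F] ≥ 3`: from a Siegel element in `c.M` we build a transvection in
`c.M`, using `Orbit`, `Hua`, `Trans`.
-/

set_option autoImplicit false

namespace Cfsg.Agent.Lib.Helper91.SFTVEVEN1

open Cfsg.Agent.Lib.Helper40.SFStmt
open Cfsg.Agent.Lib.Helper94.Basic

universe u

theorem main (h1 : Orbit.{u}) (h2 : Hua.{u}) (h3 : Trans.{u}) : TvEven1.{u} := by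
  intro F L _ _ _ _ n c h20 hr e he d w c₀ hS hd hwd hℓ0
  haveI : Module.Finite F L := Module.Finite.of_finite
  obtain ⟨φ, hφ⟩ : ∃ φ : L →ₗ[F] F, ∀ a, φ a = c.τ (a * Cfsg.sympForm n L w d) :=
    ⟨c.τ ∘ₗ (LinearMap.mulRight F (Cfsg.sympForm n L w d)), fun a => rfl⟩
  have hφ0 : φ ≠ 0 := by
    intro h0
    apply c.hτ
    ext a
    have h := hφ (a * (Cfsg.sympForm n L w d)⁻¹)
    rw [h0, inv_mul_cancel_right₀ hℓ0] at h
    simpa using h.symm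
  have hker : Module.finrank F (LinearMap.ker φ) + 1 = Module.finrank F L := by
    have hrn := LinearMap.finrank_range_add_finrank_ker φ
    have hsurj : LinearMap.range φ = ⊤ :=
      LinearMap.range_eq_top.mpr (LinearMap.surjective_of_ne_zero hφ0)
    rw [hsurj, finrank_top, Module.finrank_self] at hrn
    omega
  have h1S : (1 : L) ∈ LinearMap.ker φ := by
    rw [LinearMap.mem_ker, hφ, one_mul]
    exact hwd
  obtain ⟨υ, hυS, hυ0, hυinv⟩ := h2 F L h20 hr (LinearMap.ker φ) h1S hker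
  rw [LinearMap.mem_ker, hφ] at hυS
  rw [LinearMap.mem_ker, hφ] at hυinv
  obtain ⟨ν, hν⟩ : ∃ ν : F, ν = c.τ (υ⁻¹ * Cfsg.sympForm n L w d) := ⟨_, rfl⟩
  rw [← hν] at hυinv
  obtain ⟨u₁, hu₁⟩ : ∃ u₁ : W n L, u₁ = υ • d := ⟨_, rfl⟩
  obtain ⟨u₂, hu₂⟩ : ∃ u₂ : W n L, u₂ = υ⁻¹ • d := ⟨_, rfl⟩
  have hu₁0 : u₁ ≠ 0 := by rw [hu₁]; exact smul_ne_zero hυ0 hd
  -- form facts
  have fdd : ff c.τ d d = 0 := ff_self _ _
  have fdu₁ : ff c.τ d u₁ = 0 := by rw [hu₁, ff_lsmul_right, sympForm_self, mul_zero, map_zero]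
  have fu₁d : ff c.τ u₁ d = 0 := by rw [hu₁, ff_lsmul_left, sympForm_self, mul_zero, map_zero]
  have fu₁u₁ : ff c.τ u₁ u₁ = 0 := ff_self _ _
  have fdu₂ : ff c.τ d u₂ = 0 := by rw [hu₂, ff_lsmul_right, sympForm_self, mul_zero, map_zero]
  have fwu₁ : ff c.τ w u₁ = 0 := by rw [hu₁, ff_lsmul_right]; exact hυS
  have fwu₂ : ff c.τ w u₂ = ν := by rw [hu₂, ff_lsmul_right, hν]
  have Bu₁d : Cfsg.sympForm n L u₁ d = 0 := by
    rw [hu₁, sympForm_smul_left, sympForm_self, mul_zero]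
  have Bu₂d : Cfsg.sympForm n L u₂ d = 0 := by
    rw [hu₂, sympForm_smul_left, sympForm_self, mul_zero]
  obtain ⟨e₁, he₁, hS₁⟩ := h1 F L n c e he d w c₀ hS hℓ0 u₁ Bu₁d
  obtain ⟨e₂, he₂, hS₂⟩ := h1 F L n c e he d w c₀ hS hℓ0 u₂ Bu₂d
  obtain ⟨h, hiso, hhd⟩ := h3 L n d u₁ hd hu₁0
  obtain ⟨h', hh'def⟩ : ∃ h' : W n L ≃ₗ[F] W n L, h' = h.restrictScalars F := ⟨_, rfl⟩
  have hh'app : ∀ a : W n L, h' a = h a := fun a => by rw [hh'def]; rfl
  have hh' : h' ∈ c.M := by rw [hh'def]; exact c.hsub _ hiso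
  have hdbl : ∀ (s : F) (v : W n L), s • v + s • v = 0 := by
    intro s v
    rw [← add_smul, ← two_mul, h20, zero_mul, zero_smul]
  have hce : ∀ a : W n L, e (e⁻¹ a) = a := fun a => by
    rw [LinearEquiv.coe_inv, LinearEquiv.apply_symm_apply]
  have hce' : ∀ a : W n L, e⁻¹ (e a) = a := fun a => by
    rw [LinearEquiv.coe_inv, LinearEquiv.symm_apply_apply]
  have hch : ∀ a : W n L, h' (h'⁻¹ a) = a := fun a => by
    rw [LinearEquiv.coe_inv, LinearEquiv.apply_symm_apply]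
  have hch' : ∀ a : W n L, h'⁻¹ (h' a) = a := fun a => by
    rw [LinearEquiv.coe_inv, LinearEquiv.symm_apply_apply]
  have hed : ∀ x, ff c.τ (e x) d = ff c.τ x d := by
    intro x
    rw [hS x]
    simp only [ff_add_left, ff_smul_left, fdd, hwd, mul_zero, add_zero]
  have heu₁ : ∀ x, ff c.τ (e x) u₁ = ff c.τ x u₁ := by
    intro x
    rw [hS x]
    simp only [ff_add_left, ff_smul_left, fdu₁, fwu₁, mul_zero, add_zero]
  have heu₂ : ∀ x, ff c.τ (e x) u₂ = ff c.τ x u₂ + ν * ff c.τ x d := by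
    intro x
    rw [hS x]
    simp only [ff_add_left, ff_smul_left, fdu₂, fwu₂, mul_zero, add_zero]
    ring
  have hA : ∀ y, e₁ (e⁻¹ y) = y + ff c.τ y u₁ • d + ff c.τ y d • u₁ := by
    intro y
    obtain ⟨x, rfl⟩ : ∃ x, e x = y := ⟨e⁻¹ y, hce y⟩
    rw [hce', heu₁, hed, hS₁ x, hS x, ff_add_right]
    module
  have hB : ∀ y, e₂ (e⁻¹ y) = y + ff c.τ y u₂ • d + ff c.τ y d • u₂ + (ν * ff c.τ y d) • d := by
    intro y
    obtain ⟨x, rfl⟩ : ∃ x, e x = y := ⟨e⁻¹ y, hce y⟩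
    rw [hce', heu₂, hed, hS₂ x, hS x, ff_add_right]
    have h2 := hdbl (ν * ff c.τ x d) d
    calc x + (ff c.τ x w + ff c.τ x u₂) • d + ff c.τ x d • (w + u₂) + (c₀ * ff c.τ x d) • d
        = x + (ff c.τ x w + ff c.τ x u₂) • d + ff c.τ x d • (w + u₂) + (c₀ * ff c.τ x d) • d
          + 0 := (add_zero _).symm
      _ = _ := by rw [← h2]; module
  have hh'd : h' d = u₁ := by rw [hh'app, hhd]
  have hh'u₂ : h' u₂ = d := by
    rw [hh'app, hu₂, map_smul, hhd, hu₁, smul_smul, inv_mul_cancel₀ hυ0, one_smul]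
  have hC : ∀ y, h' (e₂ (e⁻¹ (h'⁻¹ y))) =
      y + ff c.τ y d • u₁ + ff c.τ y u₁ • d + (ν * ff c.τ y u₁) • u₁ := by
    intro y
    obtain ⟨z, rfl⟩ : ∃ z, h' z = y := ⟨h'⁻¹ y, hch y⟩
    have k1 : ff c.τ z u₂ = ff c.τ (h' z) d := by
      have h := c.isom h' hh' z u₂
      rw [hh'u₂] at h
      exact h.symm
    have k2 : ff c.τ z d = ff c.τ (h' z) u₁ := by
      have h := c.isom h' hh' z d
      rw [hh'd] at h
      exact h.symm
    rw [hch', hB z]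
    simp only [map_add, map_smul]
    rw [hh'd, hh'u₂, k1, k2]
  have key : ∀ (x a b c : W n L), a + a = 0 → b + b = 0 → x + a + b + c + b + a = x + c := by
    intro x a b c ha hb
    calc x + a + b + c + b + a = x + c + (a + a) + (b + b) := by abel
      _ = x + c := by rw [ha, hb, add_zero, add_zero]
  refine ⟨e₁ * e⁻¹ * (h' * (e₂ * e⁻¹) * h'⁻¹),
    c.M.mul_mem (c.M.mul_mem he₁ (c.M.inv_mem he))
      (c.M.mul_mem (c.M.mul_mem hh' (c.M.mul_mem he₂ (c.M.inv_mem he))) (c.M.inv_mem hh')),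
    u₁, ν, hu₁0, hυinv, ?_⟩
  intro x
  show e₁ (e⁻¹ (h' (e₂ (e⁻¹ (h'⁻¹ x))))) = _
  rw [hA, hC x]
  simp only [ff_add_left, ff_smul_left, fu₁u₁, fdu₁, fu₁d, fdd, mul_zero, add_zero]
  exact key _ _ _ _ (hdbl _ _) (hdbl _ _)

end Cfsg.Agent.Lib.Helper91.SFTVEVEN1
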