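import Mathlib

/-!
Piece A2b of S4394 (for helper4): the small exclusion in the structure of the normal Sylow
subgroup of a minimal non-nilpotent group.
-/

set_option autoImplicit false

namespace Cfsg.Agent.Lib.Helper91.SchA2b

theorem q_of_two {q : ℕ} (hq : q.Prime) (hqp : q ≠ 2) (hmod : 2 ^ 3 ≡ 2 [MOD q]) :
    q = 3 := by
  have hd : q ∣ 2 ^ 3 - 2 := (Nat.modEq_iff_dvd' (by norm_num)).mp hmod.symm
  have hd' : q ∣ 2 * 3 := by norm_num at hd ⊢; exact hd
  rcases (Nat.Prime.dvd_mul hq).mp hd' with h | h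
  · exact absurd ((Nat.prime_dvd_prime_iff_eq hq Nat.prime_two).mp h) hqp
  · exact (Nat.prime_dvd_prime_iff_eq hq Nat.prime_three).mp h

theorem q_of_three {q : ℕ} (hq : q.Prime) (hqp : q ≠ 3) (hmod : 3 ^ 3 ≡ 3 [MOD q]) :
    q = 2 := by
  have hd : q ∣ 3 ^ 3 - 3 := (Nat.modEq_iff_dvd' (by norm_num)).mp hmod.symm
  have hd' : q ∣ 2 ^ 3 * 3 := by norm_num at hd ⊢; exact hd
  rcases (Nat.Prime.dvd_mul hq).mp hd' with h | h
  · exact (Nat.prime_dvd_prime_iff_eq hq Nat.prime_two).mp (hq.dvd_of_dvd_pow h)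
  · exact absurd ((Nat.prime_dvd_prime_iff_eq hq Nat.prime_three).mp h) hqp

theorem sep_exc {T : Type*} [Group T] [Finite T] (p : ℕ) [Fact p.Prime] (hT : IsPGroup p T)
    (σ : MulAut T) (q : ℕ) (hq : q.Prime) (hqp : q ≠ p) (hσq : σ ^ q = 1) (hσ1 : σ ≠ 1)
    (H1 : ∀ R : Subgroup T, R ≠ ⊤ → (∀ r ∈ R, σ r ∈ R) → ∀ r ∈ R, σ r = r)
    (h1 : ∀ a b : T, a * b * a⁻¹ * b⁻¹ ∈ Subgroup.center T)
    (h4 : ∀ x : T, x ∉ Subgroup.center T → ∀ z ∈ Subgroup.center T, ∃ s : T, s * x * s⁻¹ * x⁻¹ = z)
    (h5 : ∀ t : T, σ t = t ↔ t ∈ Subgroup.center T)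
    (hp3 : p ≤ 3) (hZ : Nat.card (Subgroup.center T) = p) (K : Subgroup T)
    (hZK : Subgroup.center T ≤ K) (hK : Nat.card K = p ^ 2)
    (hKab : ∀ a ∈ K, ∀ b ∈ K, a * b = b * a) (hKexp : ∀ k ∈ K, k ^ p = 1)
    (hKc : ∀ t : T, (∀ k ∈ K, t * k = k * t) → t ∈ K) : False := by
  classical
  have hp : p.Prime := Fact.out
  have hcentsing : ∀ t : T, Subgroup.center T ≤ Subgroup.centralizer {t} := by
    intro t z hz
    rw [Subgroup.mem_centralizer_iff]
    intro x hx
    rw [Set.mem_singleton_iff] at hx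
    subst hx
    exact Subgroup.mem_center_iff.mp hz x
  -- FIXW
  have FIXW : ∀ w : T, σ w ∈ Subgroup.center T ⊔ Subgroup.zpowers w → σ w = w := by
    intro w hw
    by_cases hwZ : w ∈ Subgroup.center T
    · exact (h5 w).mpr hwZ
    · have hRcent : Subgroup.center T ⊔ Subgroup.zpowers w ≤ Subgroup.centralizer {w} := by
        apply sup_le (hcentsing w)
        rw [Subgroup.zpowers_le, Subgroup.mem_centralizer_iff]
        intro x hx
        rw [Set.mem_singleton_iff] at hx
        subst hx
        rfl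
      have hRne : Subgroup.center T ⊔ Subgroup.zpowers w ≠ ⊤ := by
        intro htop
        apply hwZ
        rw [Subgroup.mem_center_iff]
        intro g
        have hg : g ∈ Subgroup.centralizer {w} := hRcent (htop ▸ Subgroup.mem_top g)
        rw [Subgroup.mem_centralizer_iff] at hg
        exact (hg w rfl).symm
      have hRinv : ∀ r ∈ Subgroup.center T ⊔ Subgroup.zpowers w,
          σ r ∈ Subgroup.center T ⊔ Subgroup.zpowers w := by
        have hle : Subgroup.center T ⊔ Subgroup.zpowers w ≤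
            (Subgroup.center T ⊔ Subgroup.zpowers w).comap σ.toMonoidHom := by
          apply sup_le
          · intro z hz
            rw [Subgroup.mem_comap]
            show σ z ∈ _
            rw [(h5 z).mpr hz]
            exact Subgroup.mem_sup_left hz
          · rw [Subgroup.zpowers_le, Subgroup.mem_comap]
            exact hw
        exact fun r hr => hle hr
      exact H1 _ hRne hRinv w (Subgroup.mem_sup_right (Subgroup.mem_zpowers w))
  -- KEQ
  have KEQ : ∀ K₁ : Subgroup T, Subgroup.center T ≤ K₁ → K₁ ≤ K →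
      (∃ a ∈ K₁, a ∉ Subgroup.center T) → K₁ = K := by
    rintro K₁ hZ1 h1K ⟨a, ha, haZ⟩
    apply Subgroup.eq_of_le_of_card_ge h1K
    have hdvd : Nat.card K₁ ∣ p ^ 2 := hK ▸ Subgroup.card_dvd_of_le h1K
    obtain ⟨j, hj, hj2⟩ := (Nat.dvd_prime_pow hp).mp hdvd
    have hlt : Nat.card (Subgroup.center T) < Nat.card K₁ := by
      by_contra hcon
      push Not at hcon
      have := Subgroup.eq_of_le_of_card_ge hZ1 hcon
      exact haZ (this ▸ ha)
    rw [hZ, hj2] at hlt
    rw [hK, hj2]
    have h2 := hp.two_le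
    interval_cases j
    · simp at hlt; omega
    · simp at hlt
    · exact le_refl _
  -- (2)
  have CK : ∀ k ∈ K, k ∉ Subgroup.center T → ∀ t : T, t * k = k * t → t ∈ K := by
    intro k hk hkZ t htk
    apply hKc
    have hKK : K ⊓ Subgroup.centralizer {t} = K := by
      apply KEQ _ (le_inf hZK (hcentsing t)) inf_le_left ⟨k, ?_, hkZ⟩
      refine Subgroup.mem_inf.mpr ⟨hk, ?_⟩
      rw [Subgroup.mem_centralizer_iff]
      intro x hx
      rw [Set.mem_singleton_iff] at hx
      subst hx
      exact htk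
    intro k' hk'
    have hk2 : k' ∈ K ⊓ Subgroup.centralizer {t} := by rw [hKK]; exact hk'
    have hk3 := (Subgroup.mem_inf.mp hk2).2
    rw [Subgroup.mem_centralizer_iff] at hk3
    exact hk3 t rfl
  obtain ⟨k, hk, hkZ⟩ : ∃ k ∈ K, k ∉ Subgroup.center T := by
    by_contra hcon
    push Not at hcon
    have hle : K ≤ Subgroup.center T := fun k hk => hcon k hk
    have hcc := Subgroup.card_le_of_le hle
    rw [hK, hZ] at hcc
    have h2 := hp.two_le
    nlinarith
  -- (3)
  have hcardT : Nat.card T = p ^ 3 := by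
    let φ : T →* Subgroup.center T := MonoidHom.mk' (fun s => ⟨s * k * s⁻¹ * k⁻¹, h1 s k⟩) (by
      intro s t
      apply Subtype.ext
      simp only [Subgroup.coe_mul]
      have hc := Subgroup.mem_center_iff.mp (h1 t k)
      have e1 : s * t * k * (s * t)⁻¹ * k⁻¹ = s * (t * k * t⁻¹ * k⁻¹) * k * s⁻¹ * k⁻¹ := by group
      rw [e1, hc s]
      have hc2 := hc (s * k * s⁻¹ * k⁻¹)
      rw [hc2]
      group)
    have hsurj : Function.Surjective φ := by
      intro z
      obtain ⟨s, hs⟩ := h4 k hkZ z.1 z.2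
      exact ⟨s, Subtype.ext hs⟩
    have hker : φ.ker = K := by
      ext s
      rw [MonoidHom.mem_ker]
      constructor
      · intro hs
        have hs' : s * k * s⁻¹ * k⁻¹ = 1 := congrArg Subtype.val hs
        apply CK k hk hkZ
        calc s * k = (s * k * s⁻¹ * k⁻¹) * k * s := by group
          _ = k * s := by rw [hs', one_mul]
      · intro hs
        apply Subtype.ext
        show s * k * s⁻¹ * k⁻¹ = 1
        rw [hKab s hs k hk]
        group
    have hidx := Subgroup.index_ker φ
    rw [MonoidHom.range_eq_top.mpr hsurj, Subgroup.card_top, hZ, hker] at hidx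
    have hmul := Subgroup.card_mul_index K
    rw [hidx, hK] at hmul
    rw [← hmul]
    ring
  -- (4)
  have hmod : p ^ 3 ≡ p [MOD q] := by
    haveI : Fact q.Prime := ⟨hq⟩
    have hord : orderOf σ = q := orderOf_eq_prime hσq hσ1
    have hpg : IsPGroup q (Subgroup.zpowers σ) := by
      apply IsPGroup.of_card (n := 1)
      rw [Nat.card_zpowers, hord, pow_one]
    have hm := hpg.card_modEq_card_fixedPoints T
    have hfix : (MulAction.fixedPoints (Subgroup.zpowers σ) T) = (Subgroup.center T : Set T) := by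
      ext t
      rw [MulAction.mem_fixedPoints]
      constructor
      · intro h
        have := h ⟨σ, Subgroup.mem_zpowers σ⟩
        exact (h5 t).mp this
      · intro ht g
        obtain ⟨g, hg⟩ := g
        obtain ⟨j, rfl⟩ := Subgroup.mem_zpowers_iff.mp hg
        show (σ ^ j) t = t
        have hσt : σ t = t := (h5 t).mpr ht
        have hst : σ ∈ MulAction.stabilizer (MulAut T) t := by
          rw [MulAction.mem_stabilizer_iff]; exact hσt
        have := Subgroup.zpow_mem _ hst j
        rw [MulAction.mem_stabilizer_iff] at this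
        exact this
    rw [hfix, hcardT] at hm
    have : Nat.card (Subgroup.center T : Set T) = p := hZ
    rw [this] at hm
    exact hm
  have hp23 : p = 2 ∨ p = 3 := by
    have := hp.two_le
    omega
  have hσinj : Function.Injective σ := σ.injective
  rcases hp23 with rfl | rfl
  · -- p = 2, q = 3
    have hq3 : q = 3 := q_of_two hq hqp hmod
    subst hq3
    have hσ3 : ∀ x : T, σ (σ (σ x)) = x := by
      intro x
      have : (σ ^ 3) x = x := by rw [hσq]; rfl
      simpa [pow_succ] using this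
    -- squares
    obtain ⟨a, ha, haZ⟩ : ∃ a ∈ K, a ∉ Subgroup.center T := ⟨k, hk, hkZ⟩
    have hσZ : ∀ x : T, x ∉ Subgroup.center T → σ x ∉ Subgroup.center T := by
      intro x hx hsx
      apply hx
      have : σ (σ x) = σ x := (h5 _).mpr hsx
      exact (h5 x).mp (hσinj this)
    have hbZ : σ a ∉ Subgroup.center T := hσZ a haZ
    have hcZ : σ (σ a) ∉ Subgroup.center T := hσZ _ hbZ
    have ha2 : a ^ 2 = 1 := hKexp a ha
    have hb2 : (σ a) ^ 2 = 1 := by rw [← map_pow, ha2, map_one]
    have hc2 : (σ (σ a)) ^ 2 = 1 := by rw [← map_pow, hb2, map_one]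
    have NOFIX : ∀ w ∈ K, w ∉ Subgroup.center T → σ w ∉ K := by
      intro w hw hwZ hsw
      have hKw : Subgroup.center T ⊔ Subgroup.zpowers w = K :=
        KEQ _ le_sup_left (sup_le hZK (by rw [Subgroup.zpowers_le]; exact hw))
          ⟨w, Subgroup.mem_sup_right (Subgroup.mem_zpowers w), hwZ⟩
      have := FIXW w (hKw ▸ hsw)
      exact hwZ ((h5 w).mp this)
    have hbK : σ a ∉ K := NOFIX a ha haZ
    have hcK : σ (σ a) ∉ K := by
      intro hc
      have := NOFIX _ hc hcZ
      rw [hσ3 a] at this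
      exact this ha
    have hidx : K.index = 2 := by
      have hmul := Subgroup.card_mul_index K
      rw [hK, hcardT] at hmul
      omega
    have hk' : σ (σ a) * σ a ∈ K := by
      rw [Subgroup.mul_mem_iff_of_index_two hidx]
      exact ⟨fun h => absurd h hcK, fun h => absurd h hbK⟩
    have hbinv : (σ a)⁻¹ = σ a := by
      rw [inv_eq_iff_mul_eq_one, ← pow_two, hb2]
    have hceq : σ (σ a) = (σ (σ a) * σ a) * σ a := by
      rw [mul_assoc, ← pow_two, hb2, mul_one]
    by_cases hk'Z : σ (σ a) * σ a ∈ Subgroup.center T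
    · have : σ (σ a) ∈ Subgroup.center T ⊔ Subgroup.zpowers (σ a) := by
        rw [hceq]
        exact Subgroup.mul_mem _ (Subgroup.mem_sup_left hk'Z)
          (Subgroup.mem_sup_right (Subgroup.mem_zpowers _))
      have := FIXW (σ a) this
      exact hbZ ((h5 _).mp this)
    · apply hbK
      apply CK _ hk' hk'Z
      have hk2 : (σ (σ a) * σ a) ^ 2 = 1 := hKexp _ hk'
      have hc2' : ((σ (σ a) * σ a) * σ a) ^ 2 = 1 := by rw [← hceq]; exact hc2
      generalize σ (σ a) * σ a = x at hk2 hc2'
      generalize σ a = b at hb2 hc2'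
      -- x^2 = 1, b^2 = 1, (x b)^2 = 1 ⇒ b x = x b
      have e1 : x * b * (x * b) = 1 := by rw [← pow_two]; exact hc2'
      have e2 : x * x = 1 := by rw [← pow_two]; exact hk2
      have e3 : b * b = 1 := by rw [← pow_two]; exact hb2
      calc b * x = (x * x) * (b * x) * (b * b) := by rw [e2, e3, one_mul, mul_one]
        _ = x * (x * b * (x * b)) * b := by group
        _ = x * b := by rw [e1, mul_one]
  · -- p = 3, q = 2
    have hq2 : q = 2 := q_of_three hq hqp hmod
    subst hq2
    have hσ2 : ∀ x : T, σ (σ x) = x := by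
      intro x
      have : (σ ^ 2) x = x := by rw [hσq]; rfl
      simpa [pow_succ] using this
    apply hσ1
    ext x
    show σ x = x
    have hy : σ (x * σ x) = x * σ x := by
      apply FIXW
      rw [map_mul, hσ2]
      have : σ x * x = (σ x * x * (σ x)⁻¹ * x⁻¹) * (x * σ x) := by group
      rw [this]
      exact Subgroup.mul_mem _ (Subgroup.mem_sup_left (h1 _ _))
        (Subgroup.mem_sup_right (Subgroup.mem_zpowers _))
    have hyZ : x * σ x ∈ Subgroup.center T := (h5 _).mp hy
    apply FIXW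
    have : σ x = x⁻¹ * (x * σ x) := by group
    rw [this]
    rw [Subgroup.mem_center_iff.mp hyZ x⁻¹]
    exact Subgroup.mul_mem _ (Subgroup.mem_sup_left hyZ)
      (Subgroup.mem_sup_right (Subgroup.inv_mem _ (Subgroup.mem_zpowers _)))

end Cfsg.Agent.Lib.Helper91.SchA2b
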