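import Mathlib
import Cfsg.Agent.Lib.Helper39.TLStmt

/-!
# S4404 piece COP (helper91, second seat): coprime action, via the norm map
-/

set_option autoImplicit false

namespace Cfsg.Agent.Lib.Helper91.TLCOP

open Cfsg Cfsg.Agent.Lib.Helper39.TLStmt

universe u

open scoped IsMulCommutative in
theorem main : Cop.{u} := by
  intro S _ _ M _ hM L hL u hu hfix hcl
  classical
  haveI : IsMulCommutative ↥M := hM.1
  haveI : Fintype ↥L := Fintype.ofFinite _
  obtain ⟨N, hN⟩ : ∃ N : ↥M →* ↥M, ∀ m : ↥M, N m = ∏ g : ↥L, MulAut.conjNormal (g : S) m := by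
    refine ⟨∏ g : ↥L, (MulAut.conjNormal (g : S) : MulAut ↥M).toMonoidHom, fun m => ?_⟩
    rw [MonoidHom.finsetProd_apply]
    rfl
  have hinv : ∀ (g₀ : ↥L) (m : ↥M), N (MulAut.conjNormal (g₀ : S) m) = N m := by
    intro g₀ m
    rw [hN, hN]
    rw [← Equiv.prod_comp (Equiv.mulRight g₀) (fun g : ↥L => MulAut.conjNormal (g : S) m)]
    apply Finset.prod_congr rfl
    intro g _
    simp only [Equiv.coe_mulRight, Subgroup.coe_mul, map_mul, MulAut.mul_apply]
  have hker : ∀ w : S, (∃ g ∈ L, ∃ m ∈ M, w = g * m * g⁻¹ * m⁻¹) →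
      w ∈ (N.ker).map M.subtype := by
    rintro w ⟨g, hg, m, hm, rfl⟩
    refine ⟨MulAut.conjNormal g ⟨m, hm⟩ * (⟨m, hm⟩ : ↥M)⁻¹, ?_, ?_⟩
    · rw [SetLike.mem_coe, MonoidHom.mem_ker, map_mul, map_inv, hinv ⟨g, hg⟩ ⟨m, hm⟩,
        mul_inv_cancel]
    · rw [map_mul, map_inv, Subgroup.coe_subtype, MulAut.conjNormal_apply]
  have hle : Subgroup.closure {w : S | ∃ g ∈ L, ∃ m ∈ M, w = g * m * g⁻¹ * m⁻¹} ≤
      (N.ker).map M.subtype :=
    (Subgroup.closure_le _).mpr (fun w hw => hker w hw)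
  obtain ⟨k, hk, hku⟩ := hle hcl
  have hku' : (k : S) = u := hku
  have hk1 : N k = 1 := MonoidHom.mem_ker.mp hk
  have hkfix : ∀ g : ↥L, MulAut.conjNormal (g : S) k = k := by
    intro g
    apply Subtype.ext
    rw [MulAut.conjNormal_apply, hku']
    exact hfix g g.2
  have hNk : N k = k ^ Fintype.card ↥L := by
    rw [hN, Finset.prod_congr rfl (fun g _ => hkfix g), Finset.prod_const, Finset.card_univ]
  have hk2 : k ^ 2 = 1 := by
    apply Subtype.ext
    rw [Subgroup.coe_pow, Subgroup.coe_one]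
    exact hM.2 k k.2
  have hodd : Odd (Fintype.card ↥L) := by rwa [← Nat.card_eq_fintype_card]
  obtain ⟨t, ht⟩ := hodd
  have hkk : k ^ Fintype.card ↥L = k := by
    rw [ht, pow_succ, pow_mul, hk2, one_pow, one_mul]
  have hk0 : k = 1 := by rw [← hkk, ← hNk, hk1]
  rw [← hku', hk0, Subgroup.coe_one]

end Cfsg.Agent.Lib.Helper91.TLCOP
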